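import Mathlib
import Cfsg.Prelude.Def_FusionComponents
import Cfsg.Agent.Lead.FusionAut
import Cfsg.Agent.Lead.FusionKNorm1

/-!
CSE project (S5127 + S5293; chain in `notes/S5127_S5293_helper7.md`): basic definitions.

`cseZ U` is `Z(U)` as a subgroup of the ambient group; `CseGood F U X α β` says that the automorphism `β` of
`U ⊔ X` is a good lift of `α ∈ Aut(U)` over `X`: it is a map of `F`, restricts to `α` on `U` and moves every
`x ∈ X` inside `x Z(U)`.  `cseY F E` is the set of subgroups `X ≤ C_S(T)` with `E ⊆ C_F(X)`.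
-/

set_option autoImplicit false

namespace Cfsg.Agent.CSE

open Cfsg Cfsg.FusionSystem Cfsg.Agent.Lead

variable {Ω : Type*} [Group Ω] {S T : Subgroup Ω}

/-- `Z(U)` as a subgroup of the ambient group. -/
def cseZ (U : Subgroup Ω) : Subgroup Ω := U ⊓ Subgroup.centralizer (U : Set Ω)

theorem cseZ_le (U : Subgroup Ω) : cseZ U ≤ U := inf_le_left

theorem mem_cseZ {U : Subgroup Ω} {z : Ω} :
    z ∈ cseZ U ↔ z ∈ U ∧ ∀ u ∈ U, u * z = z * u := by
  unfold cseZ
  rw [Subgroup.mem_inf, Subgroup.mem_centralizer_iff]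
  rfl

/-- `β ∈ Aut(U ⊔ X)` is a good lift of `α ∈ Aut(U)` over `X`. -/
def CseGood (F : FusionSystem S) (U X : Subgroup Ω) (α : MulAut U) (β : MulAut ↥(U ⊔ X)) : Prop :=
  β ∈ F.autGroup (U ⊔ X) ∧
  (∀ u : U, ((β (Subgroup.inclusion le_sup_left u) : ↥(U ⊔ X)) : Ω) = ((α u : U) : Ω)) ∧
  ∀ x : ↥(U ⊔ X), (x : Ω) ∈ X → (x : Ω)⁻¹ * ((β x : ↥(U ⊔ X)) : Ω) ∈ cseZ U

/-- The standing hypotheses. -/
structure Setup (p : ℕ) (F : FusionSystem S) (E : FusionSystem T) : Prop where
  hS : IsPGroup p S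
  sat : F.IsSaturated p
  nrm : E.IsNormalIn F p

/-- The subgroups `X ≤ C_S(T)` with `E ⊆ C_F(X)`. -/
def cseY (F : FusionSystem S) (E : FusionSystem T) : Set (Subgroup Ω) :=
  {X | X ≤ centralizerIn S T ∧ ∀ P : Subgroup Ω, E.Hom P ⊆ F.centralizerHom X P}

/-- `x` is fixed by all good `p'`-lifts (over the full centralizers `C_S(U)`) of `p'`-elements of the groups
`Aut_E(U)`, `U` an `E`-centric subgroup. -/
def CseFixed (p : ℕ) (F : FusionSystem S) (E : FusionSystem T) (x : Ω) : Prop :=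
  ∀ (U : Subgroup Ω), E.IsCentric U → ∀ α ∈ E.autGroup U, (orderOf α).Coprime p →
    ∀ β : MulAut ↥(U ⊔ centralizerIn S U), CseGood F U (centralizerIn S U) α β →
      (orderOf β).Coprime p → ∀ y : ↥(U ⊔ centralizerIn S U), (y : Ω) = x →
        ((β y : ↥(U ⊔ centralizerIn S U)) : Ω) = x

theorem Setup.satE {p : ℕ} {F : FusionSystem S} {E : FusionSystem T} (h : Setup p F E) :
    E.IsSaturated p := h.nrm.1.1

theorem Setup.inv {p : ℕ} {F : FusionSystem S} {E : FusionSystem T} (h : Setup p F E) :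
    E.IsInvariantIn F := h.nrm.1.2.2

theorem Setup.sub {p : ℕ} {F : FusionSystem S} {E : FusionSystem T} (h : Setup p F E) :
    E.IsSubsystemOf F := h.inv.1

theorem Setup.sc {p : ℕ} {F : FusionSystem S} {E : FusionSystem T} (h : Setup p F E) :
    F.StronglyClosed T := h.inv.2.1

theorem Setup.le {p : ℕ} {F : FusionSystem S} {E : FusionSystem T} (h : Setup p F E) : T ≤ S :=
  h.sc.1

end Cfsg.Agent.CSE
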