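import Mathlib
import Cfsg.Prelude.Def_FusionComponents
import Cfsg.Agent.CSE.Basic
import Cfsg.Agent.Lead.FusionRestrict
import Cfsg.Agent.Lead.FusionHypAct

/-!
CSE project (S5127 + S5293), piece P1 (lead): the elementary calculus of good lifts
(`notes/S5127_S5293_helper7.md`): products, powers, restriction to a smaller `X' ≤ X`, and T2
(a good lift of a `p'`-element can be taken of `p'`-order).
-/

set_option autoImplicit false

namespace Cfsg.Agent.CSE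

open Cfsg Cfsg.FusionSystem Cfsg.Agent.Lead

variable {Ω : Type*} [Group Ω] {S T : Subgroup Ω}

/-- An automorphism of `U` preserves `Z(U)`. -/
theorem cse_good_aut_mem_cseZ {U : Subgroup Ω} (α : MulAut U) (z : U) (hz : (z : Ω) ∈ cseZ U) :
    ((α z : U) : Ω) ∈ cseZ U := by
  rw [mem_cseZ] at hz ⊢
  refine ⟨(α z).2, fun u hu => ?_⟩
  have h1 : (α.symm ⟨u, hu⟩ : U) * z = z * α.symm ⟨u, hu⟩ := by
    apply Subtype.ext
    exact hz.2 _ (α.symm ⟨u, hu⟩).2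
  have h2 := congrArg α h1
  rw [map_mul, map_mul, MulEquiv.apply_symm_apply] at h2
  exact congrArg (fun y : U => (y : Ω)) h2

/-- The identity is a good lift of the identity. -/
theorem cse_good_one (F : FusionSystem S) (U X : Subgroup Ω) : CseGood F U X 1 1 := by
  refine ⟨(F.autGroup _).one_mem, fun u => rfl, fun x _ => ?_⟩
  show (x : Ω)⁻¹ * (x : Ω) ∈ cseZ U
  rw [inv_mul_cancel]
  exact (cseZ U).one_mem

/-- Good lifts multiply. -/
theorem cse_good_mul (F : FusionSystem S) {U X : Subgroup Ω} {α₁ α₂ : MulAut U}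
    {β₁ β₂ : MulAut ↥(U ⊔ X)} (h₁ : CseGood F U X α₁ β₁) (h₂ : CseGood F U X α₂ β₂) :
    CseGood F U X (α₁ * α₂) (β₁ * β₂) := by
  obtain ⟨hm1, he1, hx1⟩ := h₁
  obtain ⟨hm2, he2, hx2⟩ := h₂
  refine ⟨(F.autGroup _).mul_mem hm1 hm2, ?_, ?_⟩
  · intro u
    show ((β₁ (β₂ (Subgroup.inclusion le_sup_left u)) : ↥(U ⊔ X)) : Ω) = ((α₁ (α₂ u) : U) : Ω)
    have h2 : β₂ (Subgroup.inclusion le_sup_left u) = Subgroup.inclusion le_sup_left (α₂ u) :=
      Subtype.ext (he2 u)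
    rw [h2, he1]
  · intro x hx
    have hz2 := hx2 x hx
    have hβ2 : β₂ x = x * Subgroup.inclusion le_sup_left
        (⟨(x : Ω)⁻¹ * ((β₂ x : ↥(U ⊔ X)) : Ω), cseZ_le U hz2⟩ : U) := by
      apply Subtype.ext
      show ((β₂ x : ↥(U ⊔ X)) : Ω) = (x : Ω) * ((x : Ω)⁻¹ * ((β₂ x : ↥(U ⊔ X)) : Ω))
      group
    show (x : Ω)⁻¹ * ((β₁ (β₂ x) : ↥(U ⊔ X)) : Ω) ∈ cseZ U
    rw [hβ2, map_mul]
    have e : (x : Ω)⁻¹ * ((β₁ x * β₁ (Subgroup.inclusion le_sup_left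
        (⟨(x : Ω)⁻¹ * ((β₂ x : ↥(U ⊔ X)) : Ω), cseZ_le U hz2⟩ : U)) : ↥(U ⊔ X)) : Ω) =
        ((x : Ω)⁻¹ * ((β₁ x : ↥(U ⊔ X)) : Ω)) *
          ((α₁ (⟨(x : Ω)⁻¹ * ((β₂ x : ↥(U ⊔ X)) : Ω), cseZ_le U hz2⟩ : U) : U) : Ω) := by
      rw [← he1]
      show (x : Ω)⁻¹ * (((β₁ x : ↥(U ⊔ X)) : Ω) * _) = _
      rw [mul_assoc]
    rw [e]
    exact (cseZ U).mul_mem (hx1 x hx) (cse_good_aut_mem_cseZ α₁ _ hz2)

/-- Good lifts are closed under powers. -/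
theorem cse_good_pow (F : FusionSystem S) {U X : Subgroup Ω} {α : MulAut U}
    {β : MulAut ↥(U ⊔ X)} (h : CseGood F U X α β) (k : ℕ) : CseGood F U X (α ^ k) (β ^ k) := by
  induction k with
  | zero => simpa using cse_good_one F U X
  | succ k ih =>
    rw [pow_succ, pow_succ]
    exact cse_good_mul F ih h

/-- A good lift over `X` restricts to a good lift over `X' ≤ X`. -/
theorem cse_good_restrict [Finite S] (F : FusionSystem S) {U X X' : Subgroup Ω} (hUS : U ≤ S)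
    (hX : X ≤ centralizerIn S U) (hX' : X' ≤ X) {α : MulAut U} {β : MulAut ↥(U ⊔ X)}
    (h : CseGood F U X α β) :
    ∃ β' : MulAut ↥(U ⊔ X'), CseGood F U X' α β' ∧
      (∀ y : ↥(U ⊔ X'), ((β' y : ↥(U ⊔ X')) : Ω) =
        ((β (Subgroup.inclusion (sup_le_sup_left hX' U) y) : ↥(U ⊔ X)) : Ω)) ∧
      orderOf β' ∣ orderOf β := by
  obtain ⟨hm, he, hx⟩ := h
  have hXS : X ≤ S := hX.trans inf_le_left
  have hPS : U ⊔ X ≤ S := sup_le hUS hXS
  have hRP : U ⊔ X' ≤ U ⊔ X := sup_le_sup_left hX' U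
  have : Finite ↥(U ⊔ X') := Fusion.finite_of_le (hRP.trans hPS)
  -- `β` maps `U ⊔ X'` into itself
  have hinv : ∀ x : ↥(U ⊔ X), (x : Ω) ∈ U ⊔ X' → ((β x : ↥(U ⊔ X)) : Ω) ∈ U ⊔ X' := by
    set K : Subgroup Ω :=
      (((U ⊔ X').subgroupOf (U ⊔ X)).comap β.toMonoidHom).map (U ⊔ X).subtype with hK
    have hUK : U ≤ K := by
      intro u hu
      refine ⟨Subgroup.inclusion le_sup_left (⟨u, hu⟩ : U), ?_, rfl⟩
      show β (Subgroup.inclusion le_sup_left (⟨u, hu⟩ : U)) ∈ (U ⊔ X').subgroupOf (U ⊔ X)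
      rw [Subgroup.mem_subgroupOf, he]
      exact (le_sup_left : U ≤ U ⊔ X') (α ⟨u, hu⟩).2
    have hXK : X' ≤ K := by
      intro y hy
      have hyX : y ∈ U ⊔ X := hRP ((le_sup_right : X' ≤ U ⊔ X') hy)
      refine ⟨⟨y, hyX⟩, ?_, rfl⟩
      show β ⟨y, hyX⟩ ∈ (U ⊔ X').subgroupOf (U ⊔ X)
      rw [Subgroup.mem_subgroupOf]
      have hz := hx ⟨y, hyX⟩ (hX' hy)
      have e : ((β ⟨y, hyX⟩ : ↥(U ⊔ X)) : Ω) =
          y * (y⁻¹ * ((β ⟨y, hyX⟩ : ↥(U ⊔ X)) : Ω)) := by group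
      rw [e]
      exact (U ⊔ X').mul_mem ((le_sup_right : X' ≤ U ⊔ X') hy)
        ((le_sup_left : U ≤ U ⊔ X') (cseZ_le U hz))
    intro x hxm
    obtain ⟨y, hy, hyx⟩ := (sup_le hUK hXK) hxm
    have hyx' : y = x := Subtype.ext hyx
    rw [← hyx']
    exact Subgroup.mem_subgroupOf.mp hy
  obtain ⟨γ, hγ, hγβ⟩ := Fusion.exists_restrict_aut F hPS hRP β hm hinv
  refine ⟨γ, ⟨hγ, ?_, ?_⟩, fun y => hγβ y, ?_⟩
  · intro u
    rw [hγβ]
    exact he u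
  · intro y hy
    rw [hγβ]
    exact hx ⟨y, hRP y.2⟩ (hX' hy)
  · apply orderOf_dvd_of_pow_eq_one
    ext y
    have := Fusion.restrict_aut_pow hRP β γ hγβ (orderOf β) y
    rw [pow_orderOf_eq_one] at this
    exact this

/-- Good lifts of a `p'`-element can be taken of `p'`-order. -/
theorem cse_good_coprime [Finite S] (p : ℕ) [Fact p.Prime] (F : FusionSystem S) {U X : Subgroup Ω}
    (hUS : U ≤ S) (hX : X ≤ centralizerIn S U) {α : MulAut U} (hcop : (orderOf α).Coprime p)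
    {β : MulAut ↥(U ⊔ X)} (h : CseGood F U X α β) :
    ∃ β' : MulAut ↥(U ⊔ X), CseGood F U X α β' ∧ (orderOf β').Coprime p := by
  have hXS : X ≤ S := hX.trans inf_le_left
  have hPS : U ⊔ X ≤ S := sup_le hUS hXS
  have : Finite ↥(U ⊔ X) := Fusion.finite_of_le hPS
  have : Finite (MulAut ↥(U ⊔ X)) := inferInstance
  obtain ⟨k, hk, hk1⟩ := exists_pow_coprime p β (orderOf α) hcop
  refine ⟨β ^ k, ?_, hk⟩
  have h1 := cse_good_pow F h k
  have h2 : α ^ k = α := by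
    have := (pow_eq_pow_iff_modEq (x := α)).mpr (hk1 : k ≡ 1 [MOD orderOf α])
    rw [this, pow_one]
  rwa [h2] at h1

end Cfsg.Agent.CSE
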