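import Mathlib
import Cfsg.Prelude.Def_FusionComponents
import Cfsg.Agent.CSE.Basic
import Cfsg.Agent.CSE.Restrict
import Cfsg.Agent.Lead.PStabCR
import Cfsg.Agent.Lead.FusionSub
import Cfsg.Agent.Lead.FusionSat3

/-!
CSE project (S5127 + S5293), piece P2 (helper2): steps 1-4 of Theorem L
(`notes/S5127_S5293_helper7.md`).  For `U` fully `F`-normalized and `E`-centric the automorphisms
of `U` having a good lift over `C_S(U)` form a subgroup `I_U` of `Aut(U)` that is normalized by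
`Aut_F(U)` and contains `Aut_T(U)`; `Aut_T(U)` is a Sylow `p`-subgroup of `Aut_E(U)`, so by the
Frattini argument it is enough to lift the elements of `N_{Aut_E(U)}(Aut_T(U))`, and the `p`-part of
such an element lies in `Aut_T(U)`.
-/

set_option autoImplicit false

namespace Cfsg.Agent.CSE

open Cfsg Cfsg.FusionSystem Cfsg.Agent.Lead

open scoped Pointwise

variable {Ω : Type*} [Group Ω] {S T : Subgroup Ω}

/-- A good lift of `α` gives a good lift of `α⁻¹` (a power). -/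
theorem cse_locA_good_inv [Finite S] (F : FusionSystem S) {U X : Subgroup Ω} (hUS : U ≤ S)
    (hXS : X ≤ S) {α : MulAut U} {β : MulAut ↥(U ⊔ X)} (h : CseGood F U X α β) :
    ∃ β' : MulAut ↥(U ⊔ X), CseGood F U X α⁻¹ β' := by
  have : Finite U := Fusion.finite_of_le hUS
  have : Finite ↥(U ⊔ X) := Fusion.finite_of_le (sup_le hUS hXS)
  have : Finite (MulAut U) := inferInstance
  have : Finite (MulAut ↥(U ⊔ X)) := inferInstance
  have hn : 0 < orderOf α * orderOf β := Nat.mul_pos (orderOf_pos α) (orderOf_pos β)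
  refine ⟨β ^ (orderOf α * orderOf β - 1), ?_⟩
  have h1 := cse_good_pow F h (orderOf α * orderOf β - 1)
  have h2 : α ^ (orderOf α * orderOf β - 1) = α⁻¹ := by
    apply eq_inv_of_mul_eq_one_left
    rw [← pow_succ, Nat.sub_add_cancel hn, pow_mul, pow_orderOf_eq_one, one_pow]
  rwa [h2] at h1

/-- The automorphisms of `U` having a good lift over `C_S(U)`. -/
def cseLocAI [Finite S] (F : FusionSystem S) (U : Subgroup Ω) (hUS : U ≤ S) :
    Subgroup (MulAut U) where
  carrier := {α | ∃ β : MulAut ↥(U ⊔ centralizerIn S U), CseGood F U (centralizerIn S U) α β}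
  mul_mem' := by
    rintro a b ⟨β₁, h₁⟩ ⟨β₂, h₂⟩
    exact ⟨β₁ * β₂, cse_good_mul F h₁ h₂⟩
  one_mem' := ⟨1, cse_good_one F U _⟩
  inv_mem' := by
    rintro a ⟨β, hβ⟩
    exact cse_locA_good_inv F hUS inf_le_left hβ

theorem cse_locA_mem_I [Finite S] (F : FusionSystem S) (U : Subgroup Ω) (hUS : U ≤ S)
    (α : MulAut U) : α ∈ cseLocAI F U hUS ↔
      ∃ β : MulAut ↥(U ⊔ centralizerIn S U), CseGood F U (centralizerIn S U) α β := Iff.rfl

/-- Membership in `C_S(U)`. -/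
theorem cse_locA_mem_centralizerIn {S U : Subgroup Ω} {x : Ω} :
    x ∈ centralizerIn S U ↔ x ∈ S ∧ ∀ u ∈ U, u * x = x * u := by
  unfold centralizerIn
  rw [Subgroup.mem_inf, Subgroup.mem_centralizer_iff]
  rfl

/-- An automorphism of `U C_S(U)` restricting to an automorphism of `U` maps `C_S(U)` into itself. -/
theorem cse_locA_map_centralizer {U : Subgroup Ω} (hUS : U ≤ S)
    (δ : MulAut ↥(U ⊔ centralizerIn S U)) (a : MulAut U)
    (hδ : ∀ u : U, δ (Subgroup.inclusion le_sup_left u) = Subgroup.inclusion le_sup_left (a u))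
    (x : ↥(U ⊔ centralizerIn S U)) (hx : (x : Ω) ∈ centralizerIn S U) :
    ((δ x : ↥(U ⊔ centralizerIn S U)) : Ω) ∈ centralizerIn S U := by
  have hle : U ⊔ centralizerIn S U ≤ S := sup_le hUS inf_le_left
  rw [cse_locA_mem_centralizerIn]
  refine ⟨hle (δ x).2, ?_⟩
  intro u hu
  have hu' : (Subgroup.inclusion le_sup_left (a (a⁻¹ ⟨u, hu⟩)) : ↥(U ⊔ centralizerIn S U)) =
      ⟨u, le_sup_left (a := U) hu⟩ := by
    apply Subtype.ext
    show ((a (a⁻¹ ⟨u, hu⟩) : U) : Ω) = u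
    rw [MulAut.apply_inv_self]
  have hcomm : x * Subgroup.inclusion le_sup_left (a⁻¹ ⟨u, hu⟩) =
      Subgroup.inclusion le_sup_left (a⁻¹ ⟨u, hu⟩) * x := by
    apply Subtype.ext
    show (x : Ω) * ((a⁻¹ ⟨u, hu⟩ : U) : Ω) = ((a⁻¹ ⟨u, hu⟩ : U) : Ω) * (x : Ω)
    exact ((cse_locA_mem_centralizerIn.mp hx).2 _ (a⁻¹ ⟨u, hu⟩).2).symm
  have h3 := congrArg δ hcomm
  rw [map_mul, map_mul, hδ, hu'] at h3
  exact (congrArg (fun y : ↥(U ⊔ centralizerIn S U) => (y : Ω)) h3).symm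

/-- Step 2: `I_U` is normalized by `Aut_F(U)` (for `U` receptive). -/
theorem cse_locA_conj_mem [Finite S] (F : FusionSystem S) {U : Subgroup Ω} (hrec : F.IsReceptive U)
    (γ : MulAut U) (hγ : γ ∈ F.autGroup U) {α : MulAut U}
    {β : MulAut ↥(U ⊔ centralizerIn S U)} (h : CseGood F U (centralizerIn S U) α β) :
    ∃ β' : MulAut ↥(U ⊔ centralizerIn S U),
      CseGood F U (centralizerIn S U) (γ * α * γ⁻¹) β' := by
  have hUS : U ≤ S := hrec.1
  obtain ⟨γh, hγh, hγx⟩ := PStab.exists_aut_sup_centralizerIn_extension F hrec γ hγ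
  obtain ⟨hm, he, hx⟩ := h
  have hincl : ∀ u : U, γh (Subgroup.inclusion le_sup_left u) =
      Subgroup.inclusion le_sup_left (γ u) := fun u => Subtype.ext (hγx u)
  have hinclinv : ∀ u : U, γh⁻¹ (Subgroup.inclusion le_sup_left u) =
      Subgroup.inclusion le_sup_left (γ⁻¹ u) := by
    intro u
    apply γh.injective
    rw [MulAut.apply_inv_self, hincl, MulAut.apply_inv_self]
  have hβincl : ∀ u : U, β (Subgroup.inclusion le_sup_left u) =
      Subgroup.inclusion le_sup_left (α u) := fun u => Subtype.ext (he u)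
  refine ⟨γh * β * γh⁻¹, ?_, ?_, ?_⟩
  · exact (F.autGroup _).mul_mem ((F.autGroup _).mul_mem hγh hm) ((F.autGroup _).inv_mem hγh)
  · intro u
    show ((γh (β (γh⁻¹ (Subgroup.inclusion le_sup_left u))) : ↥(U ⊔ centralizerIn S U)) : Ω) =
      ((γ (α (γ⁻¹ u)) : U) : Ω)
    rw [hinclinv, hβincl, hincl]
    rfl
  · intro x hxD
    have hy : ((γh⁻¹ x : ↥(U ⊔ centralizerIn S U)) : Ω) ∈ centralizerIn S U :=
      cse_locA_map_centralizer hUS γh⁻¹ γ⁻¹ hinclinv x hxD
    have hz := hx (γh⁻¹ x) hy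
    have hβy : β (γh⁻¹ x) = γh⁻¹ x * Subgroup.inclusion le_sup_left
        (⟨((γh⁻¹ x : ↥(U ⊔ centralizerIn S U)) : Ω)⁻¹ *
          ((β (γh⁻¹ x) : ↥(U ⊔ centralizerIn S U)) : Ω), cseZ_le U hz⟩ : U) := by
      apply Subtype.ext
      show ((β (γh⁻¹ x) : ↥(U ⊔ centralizerIn S U)) : Ω) =
        ((γh⁻¹ x : ↥(U ⊔ centralizerIn S U)) : Ω) *
          (((γh⁻¹ x : ↥(U ⊔ centralizerIn S U)) : Ω)⁻¹ *
            ((β (γh⁻¹ x) : ↥(U ⊔ centralizerIn S U)) : Ω))
      group
    show (x : Ω)⁻¹ * ((γh (β (γh⁻¹ x)) : ↥(U ⊔ centralizerIn S U)) : Ω) ∈ cseZ U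
    rw [hβy, map_mul, MulAut.apply_inv_self, hincl]
    show (x : Ω)⁻¹ * ((x : Ω) * ((γ _ : U) : Ω)) ∈ cseZ U
    rw [inv_mul_cancel_left]
    exact cse_good_aut_mem_cseZ γ _ hz

/-- `Aut_E(U) ≤ Aut_F(U)`. -/
theorem cse_locA_autGroup_le {F : FusionSystem S} {E : FusionSystem T} (hsub : E.IsSubsystemOf F)
    (hTS : T ≤ S) {U : Subgroup Ω} (hUT : U ≤ T) : E.autGroup U ≤ F.autGroup U := by
  intro α hα
  rw [Fusion.mem_autGroup_iff F (hUT.trans hTS)]
  exact hsub U ((Fusion.mem_autGroup_iff E hUT α).mp hα)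

/-- Step 3: `Aut_T(U) ≤ I_U`. -/
theorem cse_locA_autT_mem [Finite S] {p : ℕ} {F : FusionSystem S} {E : FusionSystem T}
    (h : Setup p F E) {U : Subgroup Ω} (hU : E.IsCentric U) (α : MulAut U)
    (hα : α ∈ autInducedBy T U) :
    ∃ β : MulAut ↥(U ⊔ centralizerIn S U), CseGood F U (centralizerIn S U) α β := by
  obtain ⟨g, hgT, hg⟩ := (mem_autInducedBy_iff T U α).mp hα
  have hUT : U ≤ T := hU.1
  have hTS : T ≤ S := h.le
  have hUS : U ≤ S := hUT.trans hTS
  have hgS : g ∈ S := hTS hgT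
  have hle : U ⊔ centralizerIn S U ≤ S := sup_le hUS inf_le_left
  have : Finite U := Fusion.finite_of_le hUS
  have : Finite ↥(U ⊔ centralizerIn S U) := Fusion.finite_of_le hle
  have hgU : ∀ u ∈ U, g * u * g⁻¹ ∈ U := by
    intro u hu
    rw [← hg ⟨u, hu⟩]
    exact (α ⟨u, hu⟩).2
  have hgNU : g ∈ Subgroup.normalizer (U : Set Ω) := mem_normalizer_of_conj_mem_of_finite U g hgU
  have hgU' : ∀ u ∈ U, g⁻¹ * u * g ∈ U := by
    intro u hu
    have h1 := (Subgroup.mem_normalizer_iff.mp (Subgroup.inv_mem _ hgNU) u).mp hu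
    rwa [inv_inv] at h1
  have hgD : ∀ d ∈ centralizerIn S U, g * d * g⁻¹ ∈ centralizerIn S U := by
    intro d hd
    rw [cse_locA_mem_centralizerIn] at hd ⊢
    refine ⟨S.mul_mem (S.mul_mem hgS hd.1) (S.inv_mem hgS), ?_⟩
    intro u hu
    have h1 := hd.2 _ (hgU' u hu)
    calc u * (g * d * g⁻¹) = g * ((g⁻¹ * u * g) * d) * g⁻¹ := by group
      _ = g * (d * (g⁻¹ * u * g)) * g⁻¹ := by rw [h1]
      _ = g * d * g⁻¹ * u := by group
  have hgN : g ∈ Subgroup.normalizer ((U ⊔ centralizerIn S U : Subgroup Ω) : Set Ω) := by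
    apply mem_normalizer_of_conj_mem_of_finite
    have h1 : U ⊔ centralizerIn S U ≤
        (U ⊔ centralizerIn S U).comap (MulAut.conj g).toMonoidHom := by
      apply sup_le
      · intro u hu
        rw [Subgroup.mem_comap]
        show g * u * g⁻¹ ∈ U ⊔ centralizerIn S U
        exact (le_sup_left : U ≤ U ⊔ centralizerIn S U) (hgU u hu)
      · intro d hd
        rw [Subgroup.mem_comap]
        show g * d * g⁻¹ ∈ U ⊔ centralizerIn S U
        exact (le_sup_right : centralizerIn S U ≤ U ⊔ centralizerIn S U) (hgD d hd)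
    intro x hx
    exact h1 hx
  have hTn : ∀ s ∈ S, ∀ t ∈ T, s * t * s⁻¹ ∈ T := by
    intro s hs t ht
    exact h.sc.2 T le_rfl (conjHom T s) (F.conj_mem hTS hs) ⟨t, ht⟩
  refine ⟨conjAutHom (U ⊔ centralizerIn S U) ⟨g, hgN⟩, ?_, ?_, ?_⟩
  · exact Fusion.autInducedBy_le_autGroup F hle
      (Fusion.conjAutHom_mem_autInducedBy (S := S) (U ⊔ centralizerIn S U) ⟨g, hgN⟩ hgS)
  · intro u
    rw [hg u]
    rfl
  · intro x hxD
    show (x : Ω)⁻¹ * (g * (x : Ω) * g⁻¹) ∈ cseZ U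
    have hxD' := cse_locA_mem_centralizerIn.mp hxD
    have hgx := cse_locA_mem_centralizerIn.mp (hgD _ hxD)
    have hmT : (x : Ω)⁻¹ * (g * (x : Ω) * g⁻¹) ∈ T := by
      have h1 := hTn _ (S.inv_mem hxD'.1) g hgT
      rw [inv_inv] at h1
      have h2 := T.mul_mem h1 (T.inv_mem hgT)
      convert h2 using 1
      group
    have hmC : ∀ u ∈ U, u * ((x : Ω)⁻¹ * (g * (x : Ω) * g⁻¹)) =
        ((x : Ω)⁻¹ * (g * (x : Ω) * g⁻¹)) * u := by
      intro u hu
      have h1 := hxD'.2 u hu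
      have h2 := hgx.2 u hu
      have h3 : u * (x : Ω)⁻¹ = (x : Ω)⁻¹ * u := by
        calc u * (x : Ω)⁻¹ = (x : Ω)⁻¹ * ((x : Ω) * u) * (x : Ω)⁻¹ := by group
          _ = (x : Ω)⁻¹ * (u * (x : Ω)) * (x : Ω)⁻¹ := by rw [h1]
          _ = (x : Ω)⁻¹ * u := by group
      calc u * ((x : Ω)⁻¹ * (g * (x : Ω) * g⁻¹)) = (u * (x : Ω)⁻¹) * (g * (x : Ω) * g⁻¹) :=
            (mul_assoc _ _ _).symm
        _ = ((x : Ω)⁻¹ * u) * (g * (x : Ω) * g⁻¹) := by rw [h3]
        _ = (x : Ω)⁻¹ * (u * (g * (x : Ω) * g⁻¹)) := mul_assoc _ _ _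
        _ = (x : Ω)⁻¹ * ((g * (x : Ω) * g⁻¹) * u) := by rw [h2]
        _ = ((x : Ω)⁻¹ * (g * (x : Ω) * g⁻¹)) * u := (mul_assoc _ _ _).symm
    have hmCT : (x : Ω)⁻¹ * (g * (x : Ω) * g⁻¹) ∈ centralizerIn T U :=
      cse_locA_mem_centralizerIn.mpr ⟨hmT, hmC⟩
    have hrefl : E.IsConj U U := ⟨U.subtype, Fusion.subtype_mem E hUT, Subgroup.range_subtype U⟩
    have hmU := hU.2 U hrefl hmCT
    exact mem_cseZ.mpr ⟨hmU, hmC⟩

/-- The `p'`-part and the `p`-part of an element of a finite group, as powers. -/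
theorem cse_locA_exists_parts {Γ : Type*} [Group Γ] [Finite Γ] (p : ℕ) [Fact p.Prime] (γ : Γ) :
    ∃ k l e : ℕ, (orderOf (γ ^ k)).Coprime p ∧ (γ ^ l) ^ p ^ e = 1 ∧ γ ^ k * γ ^ l = γ := by
  have hp : p.Prime := Fact.out
  have hpos : 0 < orderOf γ := orderOf_pos γ
  obtain ⟨e, m', hm', hγ⟩ := Nat.exists_eq_pow_mul_and_not_dvd hpos.ne' p hp.ne_one
  have hcop : (p ^ e).Coprime m' := Nat.Coprime.pow_left e (hp.coprime_iff_not_dvd.mpr hm')
  obtain ⟨k, hk0, hk1⟩ := Nat.chineseRemainder hcop 0 1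
  obtain ⟨l, hl1, hl0⟩ := Nat.chineseRemainder hcop 1 0
  refine ⟨k, l, e, ?_, ?_, ?_⟩
  · have hdvd : orderOf (γ ^ k) ∣ m' := by
      apply orderOf_dvd_of_pow_eq_one
      rw [← pow_mul]
      apply orderOf_dvd_iff_pow_eq_one.mp
      rw [hγ]
      exact Nat.mul_dvd_mul ((Nat.modEq_zero_iff_dvd).mp hk0) dvd_rfl
    exact Nat.Coprime.coprime_dvd_left hdvd ((hp.coprime_iff_not_dvd.mpr hm').symm)
  · rw [← pow_mul]
    apply orderOf_dvd_iff_pow_eq_one.mp
    rw [hγ, mul_comm l]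
    exact Nat.mul_dvd_mul dvd_rfl ((Nat.modEq_zero_iff_dvd).mp hl0)
  · rw [← pow_add]
    have h1 : k + l ≡ 1 [MOD p ^ e] := by
      have := Nat.ModEq.add hk0 hl1
      simpa using this
    have h2 : k + l ≡ 1 [MOD m'] := by
      have := Nat.ModEq.add hk1 hl0
      simpa using this
    have h3 : k + l ≡ 1 [MOD orderOf γ] := by
      rw [hγ]
      exact (Nat.modEq_and_modEq_iff_modEq_mul hcop).mp ⟨h1, h2⟩
    have := (pow_eq_pow_iff_modEq (x := γ)).mpr h3
    rw [this, pow_one]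

/-- Steps 1-4 of Theorem L. -/
theorem cse_local_of_normalizer [Finite S] (p : ℕ) [Fact p.Prime] {F : FusionSystem S}
    {E : FusionSystem T} (h : Setup p F E) {U : Subgroup Ω} (hU : E.IsCentric U)
    (hfn : F.IsFullyNormalized U)
    (hN : ∀ a ∈ E.autGroup U, (orderOf a).Coprime p →
      (∀ t ∈ autInducedBy T U, a * t * a⁻¹ ∈ autInducedBy T U) →
      ∃ β : MulAut ↥(U ⊔ centralizerIn S U), CseGood F U (centralizerIn S U) a β)
    (α : MulAut U) (hα : α ∈ E.autGroup U) :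
    ∃ β : MulAut ↥(U ⊔ centralizerIn S U), CseGood F U (centralizerIn S U) α β := by
  have hUT : U ≤ T := hU.1
  have hTS : T ≤ S := h.le
  have hUS : U ≤ S := hUT.trans hTS
  have : Finite T := Fusion.finite_of_le hTS
  have : Finite U := Fusion.finite_of_le hUS
  have : Finite (MulAut U) := inferInstance
  have hrec : F.IsReceptive U := ((Fusion.isSaturated_iff' p h.hS F).mp h.sat).2 U hfn
  have hEfn : E.IsFullyNormalized U :=
    (Fusion.fully_of_subsystem p h.hS F h.sat T h.sc E h.sub U hUT).2 hfn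
  have hfa : E.IsFullyAutomized p U :=
    (Fusion.fullyCentralized_fullyAutomized_of_fullyNormalized p (h.hS.to_le hTS) E h.satE
      hEfn).2
  obtain ⟨R, hR⟩ := hfa.2
  have hAF : E.autGroup U ≤ F.autGroup U := cse_locA_autGroup_le h.sub hTS hUT
  have hTA : autInducedBy T U ≤ E.autGroup U := Fusion.autInducedBy_le_autGroup E hUT
  -- the normal subgroup `J = I ∩ A` of `A`
  set I : Subgroup (MulAut U) := cseLocAI F U hUS with hI
  have hJn : (I.subgroupOf (E.autGroup U)).Normal := by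
    refine ⟨fun j hj g => ?_⟩
    rw [Subgroup.mem_subgroupOf] at hj ⊢
    obtain ⟨β, hβ⟩ := hj
    exact cse_locA_conj_mem F hrec g.1 (hAF g.2) hβ
  have hRJ : (R : Subgroup (E.autGroup U)) ≤ I.subgroupOf (E.autGroup U) := by
    rw [hR]
    intro t ht
    rw [Subgroup.mem_subgroupOf] at ht ⊢
    exact cse_locA_autT_mem h hU _ ht
  have hfr : Subgroup.normalizer ((R : Subgroup (E.autGroup U)) : Set _) ⊔
      I.subgroupOf (E.autGroup U) = ⊤ := Sylow.normalizer_sup_eq_top' R hRJ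
  -- elements of the normalizer of the Sylow subgroup lie in `I`
  have hNI : ∀ a : E.autGroup U, a ∈ Subgroup.normalizer ((R : Subgroup (E.autGroup U)) : Set _) →
      (a : MulAut U) ∈ I := by
    intro a ha
    obtain ⟨k, l, e, hk, hl, hkl⟩ := cse_locA_exists_parts p (a : MulAut U)
    have hnorm : ∀ n : ℕ, ∀ t ∈ autInducedBy T U,
        (a : MulAut U) ^ n * t * ((a : MulAut U) ^ n)⁻¹ ∈ autInducedBy T U := by
      intro n t ht
      have han : a ^ n ∈ Subgroup.normalizer ((R : Subgroup (E.autGroup U)) : Set _) :=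
        Subgroup.pow_mem _ ha n
      have h1 : (⟨t, hTA ht⟩ : E.autGroup U) ∈ (R : Subgroup (E.autGroup U)) := by
        rw [hR, Subgroup.mem_subgroupOf]
        exact ht
      have h2 := (Subgroup.mem_normalizer_iff.mp han _).mp h1
      rw [hR, Subgroup.mem_subgroupOf] at h2
      exact h2
    -- the p'-part
    have hkI : (a : MulAut U) ^ k ∈ I :=
      hN _ ((E.autGroup U).pow_mem a.2 k) hk (hnorm k)
    -- the p-part lies in the Sylow subgroup
    have hlI : (a : MulAut U) ^ l ∈ I := by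
      have hcn : a ^ l ∈ Subgroup.normalizer ((R : Subgroup (E.autGroup U)) : Set _) :=
        Subgroup.pow_mem _ ha l
      have hce : (a ^ l) ^ p ^ e = 1 := by
        apply Subtype.ext
        exact hl
      have hpl : IsPGroup p (Subgroup.zpowers (a ^ l)) := by
        rintro ⟨y, hy⟩
        obtain ⟨n, rfl⟩ := Subgroup.mem_zpowers_iff.mp hy
        refine ⟨e, Subtype.ext ?_⟩
        show ((a ^ l) ^ n) ^ p ^ e = 1
        rw [← zpow_natCast, ← zpow_mul, mul_comm, zpow_mul, zpow_natCast, hce, one_zpow]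
      have hsup : IsPGroup p (Subgroup.zpowers (a ^ l) ⊔ (R : Subgroup (E.autGroup U)) :
          Subgroup (E.autGroup U)) :=
        hpl.to_sup_of_normal_right' R.isPGroup' (Subgroup.zpowers_le.mpr hcn)
      have heq := R.is_maximal' hsup le_sup_right
      have hal : a ^ l ∈ (R : Subgroup (E.autGroup U)) := by
        rw [← heq]
        exact (le_sup_left : Subgroup.zpowers (a ^ l) ≤ _) (Subgroup.mem_zpowers _)
      rw [hR, Subgroup.mem_subgroupOf] at hal
      exact cse_locA_autT_mem h hU _ hal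
    rw [← hkl]
    exact I.mul_mem hkI hlI
  have hmem : (⟨α, hα⟩ : E.autGroup U) ∈
      Subgroup.normalizer ((R : Subgroup (E.autGroup U)) : Set _) ⊔
        I.subgroupOf (E.autGroup U) := by
    rw [hfr]
    exact Subgroup.mem_top _
  have hmem2 : (⟨α, hα⟩ : E.autGroup U) ∈
      ((Subgroup.normalizer ((R : Subgroup (E.autGroup U)) : Set _) : Subgroup (E.autGroup U)) :
        Set (E.autGroup U)) * ((I.subgroupOf (E.autGroup U) : Subgroup (E.autGroup U)) :
        Set (E.autGroup U)) := by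
    rw [← Subgroup.mul_normal]
    exact hmem
  obtain ⟨n, hn, j, hj, hnj⟩ := Set.mem_mul.mp hmem2
  have hnI := hNI n hn
  have hjI : (j : MulAut U) ∈ I := Subgroup.mem_subgroupOf.mp hj
  have hαI : α ∈ I := by
    have h1 : (n : MulAut U) * (j : MulAut U) = α := congrArg Subtype.val hnj
    rw [← h1]
    exact I.mul_mem hnI hjI
  exact hαI

end Cfsg.Agent.CSE
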