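import Mathlib
import Cfsg.Prelude.Def_FusionComponents
import Cfsg.Agent.CSE.Basic
import Cfsg.Agent.Lead.FusionSat3
import Cfsg.Agent.Lead.FusionKNorm6
import Cfsg.Agent.Lead.FusionSubnormal
import Cfsg.Agent.Lead.FusionCentric
import Cfsg.Agent.Lead.FusionStrongInvD
import Cfsg.Agent.Lead.FusionStab
import Cfsg.Agent.Lead.FusionExt
import Cfsg.Agent.Helper1.Coprime
import Cfsg.Agent.S5096
import Cfsg.Agent.S5095
import Cfsg.Agent.Lead.KLa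
import Cfsg.Agent.Lead.FusionConj
import Cfsg.Agent.CSE.Restrict

/-!
CSE project (S5127 + S5293), piece P3: step 5 of Theorem L of `notes/S5127_S5293_helper7.md`.

`U` is `E`-centric and fully `F`-normalized, `U ≠ T`, `a ∈ Aut_E(U)` normalizes `Aut_T(U)`; by induction every
element of `Aut_E(V)`, `V = N_T(U)`, has a good lift over `C_S(V)`.  Then `a` has a good lift over `C_S(U)`.
-/

set_option autoImplicit false
set_option linter.unusedSectionVars false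
set_option linter.unusedVariables false
set_option linter.style.haveILetI false

namespace Cfsg.Agent.CSE

open Cfsg Cfsg.FusionSystem Cfsg.Agent.Lead Cfsg.Agent.Lead.StrongInv

variable {Ω : Type*} [Group Ω] {S T : Subgroup Ω}

/-! ### General lemmas -/

/-- Coprime action on a chain: an automorphism `σ` of order prime to `p` which moves every element of `D` inside
its coset of `E₁`, every element of `E₁` inside its coset of the `σ`-invariant subgroup `Z`, where `Z` is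
centralized by `D ≥ E₁` and the elements of `E₁` are `p`-elements, moves every element of `D` inside its coset
of `Z`. -/
theorem cse_locB_chain {Y : Type*} [Group Y] (p : ℕ) [Fact p.Prime] (σ : MulAut Y)
    (hσ : (orderOf σ).Coprime p) (D E₁ Z : Subgroup Y) (hED : E₁ ≤ D) (hZE : Z ≤ E₁)
    (hE₁p : ∀ e ∈ E₁, ∃ k : ℕ, orderOf e = p ^ k)
    (hcomm : ∀ z ∈ Z, ∀ d ∈ D, z * d = d * z)
    (h1 : ∀ d ∈ D, d⁻¹ * σ d ∈ E₁) (h2 : ∀ e ∈ E₁, e⁻¹ * σ e ∈ Z) (h3 : ∀ z ∈ Z, σ z ∈ Z)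
    (d : Y) (hd : d ∈ D) : d⁻¹ * σ d ∈ Z := by
  set e := d⁻¹ * σ d with he
  have heE : e ∈ E₁ := h1 d hd
  have heD : e ∈ D := hED heE
  set z' := e⁻¹ * σ e with hz'
  have hz'Z : z' ∈ Z := h2 e heE
  have hσe : σ e = e * z' := by rw [hz']; group
  have hσd : σ d = d * e := by rw [he]; group
  have hcomm' : e * z' = z' * e := (hcomm z' hz'Z e heD).symm
  have hpow : ∀ k : ℕ, (e * z') ^ k = e ^ k * z' ^ k := fun k => (Commute.mul_pow hcomm' k)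
  have key : ∀ k : ℕ, ∃ z ∈ Z, (σ ^ k) d = d * e ^ k * z := by
    intro k
    induction k with
    | zero => exact ⟨1, Subgroup.one_mem _, by simp⟩
    | succ k ih =>
      obtain ⟨z, hz, hk⟩ := ih
      refine ⟨z' ^ k * σ z, Subgroup.mul_mem _ (Subgroup.pow_mem _ hz'Z k) (h3 z hz), ?_⟩
      rw [pow_succ', MulAut.mul_apply, hk, map_mul, map_mul, map_pow, hσd, hσe, hpow, pow_succ']
      group
  obtain ⟨z, hz, hk⟩ := key (orderOf σ)
  rw [pow_orderOf_eq_one, MulAut.one_apply] at hk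
  have hen : e ^ orderOf σ ∈ Z := by
    have h4 : e ^ orderOf σ = z⁻¹ := by
      have h5 : d * (e ^ orderOf σ * z) = d * 1 := by rw [mul_one, ← mul_assoc]; exact hk.symm
      exact eq_inv_of_mul_eq_one_left (mul_left_cancel h5)
    rw [h4]; exact Subgroup.inv_mem _ hz
  obtain ⟨j, hj⟩ := hE₁p e heE
  have hp : p.Prime := Fact.out
  have hcop : (orderOf σ).Coprime (orderOf e) := by
    rw [hj]; exact Nat.Coprime.pow_right j hσ
  obtain ⟨m, hm⟩ := exists_pow_eq_self_of_coprime hcop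
  rw [← hm]
  exact Subgroup.pow_mem _ hen m

/-- A normal `p`-subgroup of `Aut_F(P)` lies in `Aut_S(P)` when `P` is fully automized. -/
theorem cse_locB_le_autInducedBy (p : ℕ) [Fact p.Prime] (F : FusionSystem S) {P : Subgroup Ω}
    (hfa : F.IsFullyAutomized p P) (B : Subgroup (MulAut P)) (hBA : B ≤ F.autGroup P)
    (hBp : IsPGroup p B) (hBn : ∀ α ∈ F.autGroup P, ∀ b ∈ B, α * b * α⁻¹ ∈ B) :
    B ≤ autInducedBy S P := by
  obtain ⟨R, hR⟩ := hfa.2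
  have hn : (B.subgroupOf (F.autGroup P)).Normal := by
    refine ⟨fun b hb α => ?_⟩
    rw [Subgroup.mem_subgroupOf] at hb ⊢
    exact hBn α.1 α.2 b.1 hb
  have hp' : IsPGroup p (B.subgroupOf (F.autGroup P)) := hBp.comap_subtype
  have hle := hp'.le_sylow_of_normal R
  intro β hβ
  have h1 : (⟨β, hBA hβ⟩ : F.autGroup P) ∈ (R : Subgroup (F.autGroup P)) :=
    hle (Subgroup.mem_subgroupOf.mpr hβ)
  rw [hR, Subgroup.mem_subgroupOf] at h1
  exact h1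

/-! ### Step (a): `a` extends to `Aut_E(N_T(U))` -/

theorem cse_locB_le_normalizerIn {U : Subgroup Ω} (hUT : U ≤ T) : U ≤ normalizerIn T U :=
  fun _ hu => ⟨hUT hu, Subgroup.le_normalizer hu⟩

theorem cse_locB_extend_to_V [Finite S] (p : ℕ) [Fact p.Prime] {F : FusionSystem S}
    {E : FusionSystem T} (h : Setup p F E) {U : Subgroup Ω} (hUT : U ≤ T)
    (hfn : F.IsFullyNormalized U) (a : MulAut U) (ha : a ∈ E.autGroup U)
    (hnorm : ∀ t ∈ autInducedBy T U, a * t * a⁻¹ ∈ autInducedBy T U) :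
    ∃ abar ∈ E.autGroup (normalizerIn T U), ∀ u : U,
      ((abar ⟨u, cse_locB_le_normalizerIn hUT u.2⟩ : normalizerIn T U) : Ω) = ((a u : U) : Ω) := by
  have hTS : T ≤ S := h.le
  haveI : Finite T := Fusion.finite_of_le hTS
  haveI : Finite U := Fusion.finite_of_le (hUT.trans hTS)
  have hTp : IsPGroup p T := h.hS.to_le hTS
  have hsub : E.IsSubnormalIn F p := IsSubnormalIn.step (IsSubnormalIn.refl E p) h.nrm
  have hEfn : E.IsFullyNormalized U :=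
    Fusion.fullyNormalized_of_isSubnormalIn hsub h.hS h.sat U hUT hfn
  have hrec : E.IsReceptive U := ((Fusion.isSaturated_iff' p hTp E).mp h.satE).2 U hEfn
  have hahom := (Fusion.mem_autGroup_iff E hUT a).mp ha
  set V := normalizerIn T U with hV
  have hVT : V ≤ T := inf_le_left
  haveI : Finite V := Fusion.finite_of_le (hVT.trans hTS)
  have hle : V ≤ extender T U (U.subtype.comp a.toMonoidHom) := by
    intro g hg
    have hgT : g ∈ T := hg.1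
    have hgN : g ∈ Subgroup.normalizer (U : Set Ω) := hg.2
    apply Subgroup.subset_closure
    refine ⟨hgT, hgN, ?_⟩
    have hcU : conjAutHom U ⟨g, hgN⟩ ∈ autInducedBy T U :=
      Fusion.conjAutHom_mem_autInducedBy U ⟨g, hgN⟩ hgT
    have h1 : a * conjAutHom U ⟨g, hgN⟩ * a⁻¹ ∈ autInducedBy T U := hnorm _ hcU
    rw [mem_autInducedBy_iff] at h1
    obtain ⟨k, hkT, hk⟩ := h1
    refine ⟨k, hkT, fun x hx => ?_⟩
    have h2 := hk (a x)
    show ((a ⟨g * x * g⁻¹, hx⟩ : U) : Ω) = k * ((a x : U) : Ω) * k⁻¹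
    rw [← h2]
    simp only [MulAut.mul_apply, MulAut.inv_apply_self]
    rfl
  obtain ⟨ψ', hψ', hext⟩ := hrec.2 U _ hahom (range_aut U a)
  have hα := Fusion.restrict_mem E hψ' hle
  set f : V →* Ω := ψ'.comp (Subgroup.inclusion hle) with hf
  have hfU : ∀ u : U, f ⟨u, cse_locB_le_normalizerIn hUT u.2⟩ = ((a u : U) : Ω) := by
    intro u
    exact hext u.1 u.2 (hle (cse_locB_le_normalizerIn hUT u.2))
  have hfV : ∀ x : V, f x ∈ V := by
    intro x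
    refine ⟨(E.le_of_mem hα).2 x, ?_⟩
    apply mem_normalizer_of_conj_mem_of_finite U
    intro y hy
    obtain ⟨u, hu⟩ : ∃ u : U, ((a u : U) : Ω) = y := ⟨a.symm ⟨y, hy⟩, by simp⟩
    have hxu : (x : Ω) * u * (x : Ω)⁻¹ ∈ U :=
      (Subgroup.mem_normalizer_iff.mp x.2.2 u).mp u.2
    have h3 : f x * y * (f x)⁻¹ =
        f (x * ⟨u, cse_locB_le_normalizerIn hUT u.2⟩ * x⁻¹) := by
      rw [map_mul, map_mul, map_inv, hfU u, hu]
    have h4 : (x * ⟨u, cse_locB_le_normalizerIn hUT u.2⟩ * x⁻¹ : V) =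
        ⟨((⟨(x : Ω) * u * (x : Ω)⁻¹, hxu⟩ : U) : Ω),
          cse_locB_le_normalizerIn hUT hxu⟩ := Subtype.ext rfl
    rw [h3, h4, hfU ⟨(x : Ω) * u * (x : Ω)⁻¹, hxu⟩]
    exact (a _).2
  obtain ⟨κ, hκ⟩ := exists_mulAut_of_injective f (E.injective_of_mem hα) hfV
  refine ⟨κ, ?_, fun u => ?_⟩
  · rw [Fusion.mem_autGroup_iff E hVT]
    have e : V.subtype.comp κ.toMonoidHom = f := by
      ext x
      exact (hκ x).symm
    rw [e]; exact hα
  · rw [← hκ]; exact hfU u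

/-! ### Step (b): `V = N_T(U)` is `E`-centric and larger than `U` -/

theorem cse_locB_isCentric_of_le {E : FusionSystem T} {U V : Subgroup Ω} (hU : E.IsCentric U)
    (hUV : U ≤ V) (hVT : V ≤ T) : E.IsCentric V := by
  refine ⟨hVT, ?_⟩
  rintro Q ⟨φ, hφ, hr⟩
  have hφU := Fusion.restrict_mem E hφ hUV
  have h1 := hU.2 _ ⟨_, hφU, rfl⟩
  have hle : (φ.comp (Subgroup.inclusion hUV)).range ≤ Q := by
    rintro _ ⟨x, rfl⟩
    rw [← hr]
    exact ⟨Subgroup.inclusion hUV x, rfl⟩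
  intro g hg
  apply hle
  apply h1
  refine ⟨hg.1, Subgroup.mem_centralizer_iff.mpr ?_⟩
  intro y hy
  exact (Subgroup.mem_centralizer_iff.mp hg.2) y (hle hy)

theorem cse_locB_card_lt [Finite S] (p : ℕ) [Fact p.Prime] (hS : IsPGroup p S) (hTS : T ≤ S)
    {U : Subgroup Ω} (hUT : U ≤ T) (hne : U ≠ T) :
    Nat.card U < Nat.card (normalizerIn T U) := by
  haveI : Finite T := Fusion.finite_of_le hTS
  have hTp : IsPGroup p T := hS.to_le hTS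
  have hnil : Group.IsNilpotent T := hTp.isNilpotent
  have hlt : U.subgroupOf T < ⊤ := by
    rw [lt_top_iff_ne_top]
    intro htop
    apply hne
    apply le_antisymm hUT
    intro t ht
    have h1 : (⟨t, ht⟩ : T) ∈ U.subgroupOf T := by rw [htop]; exact Subgroup.mem_top _
    exact Subgroup.mem_subgroupOf.mp h1
  have hnc := Group.normalizerCondition_of_isNilpotent (G := T) _ hlt
  obtain ⟨x, hxN, hxU⟩ := SetLike.exists_of_lt hnc
  set V := normalizerIn T U with hV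
  have hVT : V ≤ T := inf_le_left
  haveI : Finite V := Fusion.finite_of_le (hVT.trans hTS)
  have hUV : U ≤ V := cse_locB_le_normalizerIn hUT
  have hxV : (x : Ω) ∈ V := by
    refine ⟨x.2, Subgroup.mem_normalizer_iff.mpr ?_⟩
    intro y
    constructor
    · intro hy
      have h1 := (Subgroup.mem_normalizer_iff.mp hxN ⟨y, hUT hy⟩).mp
        (Subgroup.mem_subgroupOf.mpr hy)
      exact Subgroup.mem_subgroupOf.mp h1
    · intro hy
      have hyT : y ∈ T := by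
        have h2 : y = (x : Ω)⁻¹ * ((x : Ω) * y * (x : Ω)⁻¹) * (x : Ω) := by group
        rw [h2]
        exact Subgroup.mul_mem _ (Subgroup.mul_mem _ (Subgroup.inv_mem _ x.2) (hUT hy)) x.2
      have h1 := (Subgroup.mem_normalizer_iff.mp hxN ⟨y, hyT⟩).mpr
        (Subgroup.mem_subgroupOf.mpr hy)
      exact Subgroup.mem_subgroupOf.mp h1
  have hcard : Nat.card U = Nat.card (U.subgroupOf V) :=
    (Nat.card_congr (Subgroup.subgroupOfEquivOfLe hUV).toEquiv).symm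
  rw [hcard]
  apply lt_of_le_of_ne (Subgroup.card_le_card_group _)
  intro heq
  have htop := (Subgroup.card_eq_iff_eq_top _).mp heq
  apply hxU
  have h1 : (⟨(x : Ω), hxV⟩ : V) ∈ U.subgroupOf V := by rw [htop]; exact Subgroup.mem_top _
  exact Subgroup.mem_subgroupOf.mpr (Subgroup.mem_subgroupOf.mp h1)

/-! ### The twist `abar θ abar⁻¹ θ⁻¹ = c_z` -/

/-- `abar ∈ Aut_E(V)` restricts to an automorphism of the `E`-centric `U ≤ V`, and `d ∈ S` normalizes `V` and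
centralizes `U`.  Then `abar (d v d⁻¹) = (z d) abar(v) (z d)⁻¹` for some `z ∈ Z(U)`. -/
theorem cse_locB_twist [Finite S] (p : ℕ) [Fact p.Prime] {F : FusionSystem S}
    {E : FusionSystem T} (h : Setup p F E) {U V : Subgroup Ω} (hU : E.IsCentric U) (hUV : U ≤ V)
    (hVT : V ≤ T) (abar : MulAut V) (habar : abar ∈ E.autGroup V)
    (habarU : ∀ x : V, (x : Ω) ∈ U ↔ ((abar x : V) : Ω) ∈ U)
    {d : Ω} (hdS : d ∈ S) (hdN : d ∈ Subgroup.normalizer (V : Set Ω))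
    (hdU : ∀ u ∈ U, d * u * d⁻¹ = u) :
    ∃ z ∈ cseZ U, ∀ (v : V) (hv : d * (v : Ω) * d⁻¹ ∈ V),
      ((abar ⟨d * v * d⁻¹, hv⟩ : V) : Ω) = z * d * ((abar v : V) : Ω) * d⁻¹ * z⁻¹ := by
  have hTS : T ≤ S := h.le
  haveI : Finite T := Fusion.finite_of_le hTS
  have hTp : IsPGroup p T := h.hS.to_le hTS
  have hVS : V ≤ S := hVT.trans hTS
  set θ : MulAut V := conjAutHom V ⟨d, hdN⟩ with hθ
  have hθF : θ ∈ F.autGroup V :=
    Fusion.autInducedBy_le_autGroup F hVS (Fusion.conjAutHom_mem_autInducedBy V ⟨d, hdN⟩ hdS)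
  have hθv : ∀ v : V, ((θ v : V) : Ω) = d * v * d⁻¹ := fun v => rfl
  have hSI : SI F E := SI_of_invariant F E h.inv
  have h1 : θ * abar⁻¹ * θ⁻¹ ∈ E.autGroup V :=
    conj_mem_autGroup F E hSI hTS hVT θ abar⁻¹ hθF (Subgroup.inv_mem _ habar)
  set γ : MulAut V := abar * (θ * abar⁻¹ * θ⁻¹) with hγ
  have hγE : γ ∈ E.autGroup V := Subgroup.mul_mem _ habar h1
  -- `θ` and `θ⁻¹` fix `U` pointwise
  have hθU : ∀ x : V, (x : Ω) ∈ U → θ x = x := by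
    intro x hx
    apply Subtype.ext
    rw [hθv]
    exact hdU x hx
  have hθinvU : ∀ x : V, (x : Ω) ∈ U → θ⁻¹ x = x := by
    intro x hx
    have h2 := hθU x hx
    calc θ⁻¹ x = θ⁻¹ (θ x) := by rw [h2]
      _ = x := by simp
  have habarinvU : ∀ x : V, (x : Ω) ∈ U → ((abar⁻¹ x : V) : Ω) ∈ U := by
    intro x hx
    have h2 := (habarU (abar⁻¹ x)).mpr (by simpa using hx)
    exact h2
  have hγU : ∀ x : V, (x : Ω) ∈ U → γ x = x := by
    intro x hx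
    rw [hγ]
    simp only [MulAut.mul_apply]
    rw [hθinvU x hx, hθU _ (habarinvU x hx)]
    simp
  have hγhom := (Fusion.mem_autGroup_iff E hVT γ).mp hγE
  have hsub : V.subtype ∈ E.Hom V := Fusion.subtype_mem E hVT
  obtain ⟨z, hzU, hzC, hz⟩ := Cfsg.Agent.S5095.result p hTp E h.satE V U hUV hU V.subtype
    (V.subtype.comp γ.toMonoidHom) hsub hγhom (fun x hx => by
      show (x : Ω) = ((γ x : V) : Ω)
      rw [hγU x hx])
  refine ⟨z, ⟨hzU, hzC⟩, fun v hv => ?_⟩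
  have h3 : γ (θ (abar v)) = abar (θ v) := by
    rw [hγ]
    simp only [MulAut.mul_apply, MulAut.inv_apply_self]
  have h4 := hz (θ (abar v))
  have h5 : ((γ (θ (abar v)) : V) : Ω) = ((z * θ (abar v) * z⁻¹ : V) : Ω) := h4
  rw [h3] at h5
  have h6 : (⟨d * v * d⁻¹, hv⟩ : V) = θ v := Subtype.ext rfl
  rw [h6, h5]
  simp only [Subgroup.coe_mul, Subgroup.coe_inv, hθv]
  group

/-! ### Geometry of `V = N_T(U)` and `W = V C_S(V)` inside `N_S(U)` -/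

theorem cse_locB_mem_normalizer_sup {A B : Subgroup Ω} [Finite ↥(A ⊔ B)] {n : Ω}
    (hA : n ∈ Subgroup.normalizer (A : Set Ω)) (hB : n ∈ Subgroup.normalizer (B : Set Ω)) :
    n ∈ Subgroup.normalizer ((A ⊔ B : Subgroup Ω) : Set Ω) := by
  apply mem_normalizer_of_conj_mem_of_finite
  have hle : A ⊔ B ≤ (A ⊔ B).comap (MulAut.conj n).toMonoidHom := by
    refine sup_le ?_ ?_
    · intro a ha
      exact (le_sup_left : A ≤ A ⊔ B) ((Subgroup.mem_normalizer_iff.mp hA a).mp ha)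
    · intro a ha
      exact (le_sup_right : B ≤ A ⊔ B) ((Subgroup.mem_normalizer_iff.mp hB a).mp ha)
  intro y hy
  exact hle hy

/-- `T ∩ V C_S(V) = V` when `V ≤ T` contains an `E`-centric subgroup. -/
theorem cse_locB_mem_of_mem_sup {E : FusionSystem T} {U V : Subgroup Ω} (hU : E.IsCentric U)
    (hUV : U ≤ V) (hVT : V ≤ T) {w : Ω} (hwT : w ∈ T) (hw : w ∈ V ⊔ centralizerIn S V) :
    w ∈ V := by
  have hnorm : centralizerIn S V ≤ Subgroup.normalizer (V : Set Ω) :=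
    inf_le_right.trans (Subgroup.centralizer_le_normalizer (V : Set Ω))
  obtain ⟨v, hv, x, hx, rfl⟩ := Cfsg.Agent.Helper1.mem_sup_of_le_normalizer hnorm hw
  have hxT : x ∈ T := by
    have e : x = v⁻¹ * (v * x) := by group
    rw [e]
    exact T.mul_mem (T.inv_mem (hVT hv)) hwT
  have hxU : x ∈ U := by
    apply hU.2 U (Fusion.isConj_refl E hU.1)
    refine ⟨hxT, Subgroup.mem_centralizer_iff.mpr fun y hy => ?_⟩
    exact Subgroup.mem_centralizer_iff.mp hx.2 y (hUV hy)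
  exact V.mul_mem hv (hUV hxU)

/-- `N_S(U)` normalizes `V = N_T(U)`. -/
theorem cse_locB_normalizes_V [Finite S] {F : FusionSystem S} (hsc : F.StronglyClosed T)
    {U : Subgroup Ω} {n : Ω} (hn : n ∈ normalizerIn S U) :
    n ∈ Subgroup.normalizer ((normalizerIn T U : Subgroup Ω) : Set Ω) := by
  have hTS : T ≤ S := hsc.1
  haveI : Finite ↥(normalizerIn T U) := Fusion.finite_of_le ((inf_le_left : _ ≤ T).trans hTS)
  have hnT : n ∈ Subgroup.normalizer (T : Set Ω) := Fusion.le_normalizer_of_stronglyClosed F hsc hn.1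
  apply mem_normalizer_of_conj_mem_of_finite
  intro y hy
  refine ⟨(Subgroup.mem_normalizer_iff.mp hnT y).mp hy.1, ?_⟩
  exact Subgroup.mul_mem _ (Subgroup.mul_mem _ hn.2 hy.2) (Subgroup.inv_mem _ hn.2)

/-- An element normalizing `V` normalizes `C_S(V)`, if it lies in `S`. -/
theorem cse_locB_normalizes_centralizerIn [Finite S] {V : Subgroup Ω} {n : Ω} (hnS : n ∈ S)
    (hn : n ∈ Subgroup.normalizer (V : Set Ω)) :
    n ∈ Subgroup.normalizer ((centralizerIn S V : Subgroup Ω) : Set Ω) := by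
  haveI : Finite ↥(centralizerIn S V) := Fusion.finite_of_le (inf_le_left : _ ≤ S)
  apply mem_normalizer_of_conj_mem_of_finite
  intro x hx
  refine ⟨S.mul_mem (S.mul_mem hnS hx.1) (S.inv_mem hnS), Subgroup.mem_centralizer_iff.mpr ?_⟩
  intro v hv
  have hv' : n⁻¹ * v * n ∈ V := by
    have h1 := (Subgroup.mem_normalizer_iff.mp (Subgroup.inv_mem _ hn) v).mp hv
    rwa [inv_inv] at h1
  have h2 : (n⁻¹ * v * n) * x = x * (n⁻¹ * v * n) := Subgroup.mem_centralizer_iff.mp hx.2 _ hv'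
  have e1 : v * (n * x * n⁻¹) = n * ((n⁻¹ * v * n) * x) * n⁻¹ := by group
  have e2 : n * x * n⁻¹ * v = n * (x * (n⁻¹ * v * n)) * n⁻¹ := by group
  rw [e1, e2, h2]

/-! ### Automorphisms stabilizing the chain `1 ≤ V ≤ W` are induced by `S` -/

/-- The chain `1 ≤ V ≤ W ≤ W ≤ ...`. -/
def cseLocBChain (V : Subgroup Ω) : ℕ → Subgroup Ω
  | 0 => ⊥
  | 1 => V
  | _ => ⊤

/-- `W` is normal in `R`, a finite `p`-group carrying the saturated system `N`, and `V` is a subgroup invariant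
under `Aut_N(W)`.  An element of `Aut_N(W)` centralizing `V` and `W / V` is conjugation by an element of `R`. -/
theorem cse_locB_stab_inner {R : Subgroup Ω} [Finite R] (p : ℕ) [Fact p.Prime] (hR : IsPGroup p R)
    (N : FusionSystem R) (hNsat : N.IsSaturated p) {W V : Subgroup Ω} (hWR : W ≤ R)
    (hRW : R ≤ Subgroup.normalizer (W : Set Ω))
    (hVinv : ∀ α ∈ N.autGroup W, ∀ x : W, (x : Ω) ∈ V → ((α x : W) : Ω) ∈ V)
    (ν : MulAut W) (hν : ν ∈ N.autGroup W) (hνV : ∀ x : W, (x : Ω) ∈ V → ν x = x)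
    (hνW : ∀ x : W, (x : Ω)⁻¹ * ((ν x : W) : Ω) ∈ V) :
    ∃ s ∈ R, ∀ x : W, ((ν x : W) : Ω) = s * x * s⁻¹ := by
  haveI : Finite W := Fusion.finite_of_le hWR
  have hWp : IsPGroup p W := hR.to_le hWR
  have hfn : N.IsFullyNormalized W := by
    refine ⟨hWR, fun Q _ => ?_⟩
    have e : normalizerIn R W = R := inf_eq_left.mpr hRW
    rw [e]
    exact Subgroup.card_le_of_le inf_le_left
  have hfa : N.IsFullyAutomized p W :=
    (Fusion.fullyCentralized_fullyAutomized_of_fullyNormalized p hR N hNsat hfn).2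
  have hinv : ∀ i, ∀ α ∈ N.autGroup W, ∀ x : W, (x : Ω) ∈ cseLocBChain V i →
      ((α x : W) : Ω) ∈ cseLocBChain V i := by
    intro i α hα x hx
    match i, hx with
    | 0, hx =>
      have h1 : (x : Ω) = 1 := Subgroup.mem_bot.mp hx
      have h2 : x = 1 := Subtype.ext h1
      rw [h2, map_one]
      exact Subgroup.one_mem _
    | 1, hx => exact hVinv α hα x hx
    | (k + 2), _ => exact Subgroup.mem_top _
  set B := Fusion.stabSubgroup N W (cseLocBChain V) hinv with hB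
  have hνB : ν ∈ B := by
    rw [hB, Fusion.mem_stabSubgroup]
    refine ⟨hν, fun i x hx => ?_⟩
    match i, hx with
    | 0, hx =>
      have h1 : ν x = x := hνV x hx
      rw [h1, inv_mul_cancel]
      exact Subgroup.one_mem _
    | 1, _ => exact hνW x
    | (k + 2), _ => exact Subgroup.mem_top _
  have hBA : B ≤ N.autGroup W := fun β hβ => hβ.1
  have hBp : IsPGroup p B := by
    intro g
    have hg : g.1 ∈ Fusion.stabSet N W (cseLocBChain V) := g.2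
    obtain ⟨k, hk⟩ := Fusion.stabSet_pow_eq_one N W (cseLocBChain V) hinv p hWp 2
      (fun x => Subgroup.mem_top _)
      (fun β _ => ⟨0, fun x hx => by
        have h1 : (x : Ω) = 1 := Subgroup.mem_bot.mp hx
        have h2 : x = 1 := Subtype.ext h1
        rw [h2, map_one]⟩) hg
    exact ⟨k, Subtype.ext hk⟩
  have hBn : ∀ α ∈ N.autGroup W, ∀ β ∈ B, α * β * α⁻¹ ∈ B := fun α hα β hβ =>
    Fusion.stabSet_conj N W (cseLocBChain V) hinv hα hβ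
  have hle := cse_locB_le_autInducedBy p N hfa B hBA hBp hBn
  exact (mem_autInducedBy_iff R W ν).mp (hle hνB)

/-! ### The extension step: `b ∈ Aut_F(V C_S(V))` extends to `V C_S(U)` -/

/-- A subgroup normal in `R` is fully normalized in any system over `R`. -/
theorem cse_locB_fullyNormalized {R : Subgroup Ω} [Finite R] (N : FusionSystem R) {W : Subgroup Ω}
    (hWR : W ≤ R) (hRW : R ≤ Subgroup.normalizer (W : Set Ω)) : N.IsFullyNormalized W := by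
  refine ⟨hWR, fun Q _ => ?_⟩
  have e : normalizerIn R W = R := inf_eq_left.mpr hRW
  rw [e]
  exact Subgroup.card_le_of_le inf_le_left

theorem cse_locB_extend [Finite S] (p : ℕ) [Fact p.Prime] {F : FusionSystem S}
    {E : FusionSystem T} (h : Setup p F E) {U V DV DU : Subgroup Ω} (hU : E.IsCentric U)
    (hfn : F.IsFullyNormalized U) (hV : V = normalizerIn T U) (hDV : DV = centralizerIn S V)
    (hDU : DU = centralizerIn S U)
    (abar : MulAut V) (habarE : abar ∈ E.autGroup V)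
    (habarU : ∀ x : V, (x : Ω) ∈ U ↔ ((abar x : V) : Ω) ∈ U)
    (b : MulAut ↥(V ⊔ DV)) (hb : CseGood F V DV abar b) :
    ∃ bhat : ↥(V ⊔ DU) →* Ω, bhat ∈ F.Hom (V ⊔ DU) ∧
      ∀ (w : Ω) (hw : w ∈ V ⊔ DV) (hw' : w ∈ V ⊔ DU),
        bhat ⟨w, hw'⟩ = ((b ⟨w, hw⟩ : ↥(V ⊔ DV)) : Ω) := by
  have hTS : T ≤ S := h.le
  have hUT : U ≤ T := hU.1
  have hUS : U ≤ S := hUT.trans hTS
  set NS := normalizerIn S U with hNS
  have hUV : U ≤ V := by rw [hV]; exact cse_locB_le_normalizerIn hUT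
  have hVT : V ≤ T := by rw [hV]; exact inf_le_left
  have hVS : V ≤ S := hVT.trans hTS
  have hVNS : V ≤ NS := by
    intro v hv
    rw [hV] at hv
    exact ⟨hTS hv.1, hv.2⟩
  have hDVS : DV ≤ S := by rw [hDV]; exact inf_le_left
  have hDVDU : DV ≤ DU := by
    intro x hx
    rw [hDV] at hx
    rw [hDU]
    exact ⟨hx.1, Subgroup.mem_centralizer_iff.mpr fun y hy =>
      Subgroup.mem_centralizer_iff.mp hx.2 y (hUV hy)⟩
  have hDUNS : DU ≤ NS := by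
    intro x hx
    rw [hDU] at hx
    exact ⟨hx.1, Subgroup.centralizer_le_normalizer (U : Set Ω) hx.2⟩
  have hVW : V ≤ V ⊔ DV := le_sup_left
  have hWNS : V ⊔ DV ≤ NS := sup_le hVNS (hDVDU.trans hDUNS)
  have hWS : V ⊔ DV ≤ S := hWNS.trans inf_le_left
  haveI : Finite NS := Fusion.finite_of_le inf_le_left
  haveI : Finite ↥(V ⊔ DV) := Fusion.finite_of_le hWS
  haveI : Finite V := Fusion.finite_of_le hVS
  have hNSp : IsPGroup p NS := h.hS.to_le inf_le_left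
  have hNSV : ∀ n ∈ NS, n ∈ Subgroup.normalizer (V : Set Ω) := by
    intro n hn
    rw [hV]
    exact cse_locB_normalizes_V h.sc hn
  have hNSDV : ∀ n ∈ NS, n ∈ Subgroup.normalizer (DV : Set Ω) := by
    intro n hn
    rw [hDV]
    exact cse_locB_normalizes_centralizerIn hn.1 (hNSV n hn)
  have hNSW : NS ≤ Subgroup.normalizer ((V ⊔ DV : Subgroup Ω) : Set Ω) := fun n hn =>
    cse_locB_mem_normalizer_sup (hNSV n hn) (hNSDV n hn)
  obtain ⟨N, hN⟩ := Cfsg.Agent.S5096.result F U hUS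
  have hNsat : N.IsSaturated p := Fusion.normalizerSystem_isSaturated p h.hS F h.sat U hfn N hN
  obtain ⟨hbF, hbV, hbD⟩ := hb
  have hbhom := (Fusion.mem_autGroup_iff F hWS b).mp hbF
  have hbV' : ∀ (v : V), ((b ⟨v, hVW v.2⟩ : ↥(V ⊔ DV)) : Ω) = ((abar v : V) : Ω) := fun v => hbV v
  -- `b` is a map of `N_F(U)`
  set bh : ↥(V ⊔ DV) →* Ω := (V ⊔ DV).subtype.comp b.toMonoidHom with hbh
  have hbhx : ∀ x : ↥(V ⊔ DV), bh x = ((b x : ↥(V ⊔ DV)) : Ω) := fun x => rfl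
  have hbhN : bh ∈ N.Hom (V ⊔ DV) := by
    rw [hN (V ⊔ DV)]
    refine KL.mem_normalizerHom_of_le F (hUV.trans hVW) hWNS bh hbhom ?_
    ext y
    constructor
    · rintro ⟨x, hx, rfl⟩
      rw [SetLike.mem_coe, Subgroup.mem_subgroupOf] at hx
      have h1 := hbV' ⟨x.1, hUV hx⟩
      rw [hbhx]
      have h2 : (⟨((⟨x.1, hUV hx⟩ : V) : Ω), hVW (hUV hx)⟩ : ↥(V ⊔ DV)) = x := Subtype.ext rfl
      rw [h2] at h1
      rw [h1]
      exact (habarU _).mp hx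
    · intro hy
      have hv : ((abar.symm ⟨y, hUV hy⟩ : V) : Ω) ∈ U := by
        rw [habarU]
        simpa using hy
      refine ⟨⟨(abar.symm ⟨y, hUV hy⟩ : V), hVW (abar.symm ⟨y, hUV hy⟩ : V).2⟩, ?_, ?_⟩
      · rw [SetLike.mem_coe, Subgroup.mem_subgroupOf]
        exact hv
      · rw [hbhx, hbV']
        simp
  have hbN : b ∈ N.autGroup (V ⊔ DV) := (Fusion.mem_autGroup_iff N hWNS b).mpr hbhN
  -- `V` is invariant under `Aut_F(W)`
  have hP1 : ∀ α ∈ F.autGroup (V ⊔ DV), ∀ x : ↥(V ⊔ DV), (x : Ω) ∈ V →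
      ((α x : ↥(V ⊔ DV)) : Ω) ∈ V := by
    intro α hα x hx
    have h1 := Fusion.aut_mem_of_stronglyClosed F hWS h.sc α hα x (hVT hx)
    have h2 : ((α x : ↥(V ⊔ DV)) : Ω) ∈ V ⊔ centralizerIn S V := by
      rw [← hDV]
      exact (α x).2
    exact cse_locB_mem_of_mem_sup hU hUV hVT h1 h2
  have hNF : ∀ α ∈ N.autGroup (V ⊔ DV), α ∈ F.autGroup (V ⊔ DV) := by
    intro α hα
    have h1 := (Fusion.mem_autGroup_iff N hWNS α).mp hα
    rw [hN (V ⊔ DV)] at h1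
    exact (Fusion.mem_autGroup_iff F hWS α).mpr h1.1
  -- `b` acts trivially on `W / V`
  have hQ1 : ∀ w : ↥(V ⊔ DV), (w : Ω)⁻¹ * ((b w : ↥(V ⊔ DV)) : Ω) ∈ V := by
    intro w
    have hDVnV : DV ≤ Subgroup.normalizer (V : Set Ω) := by
      rw [hDV]
      exact inf_le_right.trans (Subgroup.centralizer_le_normalizer (V : Set Ω))
    obtain ⟨v, hv, x, hx, hwvx⟩ := Cfsg.Agent.Helper1.mem_sup_of_le_normalizer hDVnV w.2
    have hxW : x ∈ V ⊔ DV := (le_sup_right : DV ≤ V ⊔ DV) hx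
    have hw : w = ⟨v, hVW hv⟩ * ⟨x, hxW⟩ := Subtype.ext hwvx
    have h1 : ((b ⟨v, hVW hv⟩ : ↥(V ⊔ DV)) : Ω) = ((abar ⟨v, hv⟩ : V) : Ω) := hbV' ⟨v, hv⟩
    have h2 := hbD ⟨x, hxW⟩ hx
    have h3 : x⁻¹ * ((b ⟨x, hxW⟩ : ↥(V ⊔ DV)) : Ω) ∈ V := cseZ_le V h2
    have hm : v⁻¹ * ((abar ⟨v, hv⟩ : V) : Ω) ∈ V := V.mul_mem (V.inv_mem hv) (abar ⟨v, hv⟩).2
    have hxC : x ∈ Subgroup.centralizer (V : Set Ω) := by
      rw [hDV] at hx
      exact hx.2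
    have hmx := Subgroup.mem_centralizer_iff.mp hxC _ hm
    have e1 : x⁻¹ * (v⁻¹ * ((abar ⟨v, hv⟩ : V) : Ω)) = (v⁻¹ * ((abar ⟨v, hv⟩ : V) : Ω)) * x⁻¹ := by
      calc x⁻¹ * (v⁻¹ * ((abar ⟨v, hv⟩ : V) : Ω))
          = x⁻¹ * ((v⁻¹ * ((abar ⟨v, hv⟩ : V) : Ω)) * x) * x⁻¹ := by group
        _ = x⁻¹ * (x * (v⁻¹ * ((abar ⟨v, hv⟩ : V) : Ω))) * x⁻¹ := by rw [hmx]
        _ = (v⁻¹ * ((abar ⟨v, hv⟩ : V) : Ω)) * x⁻¹ := by group
    have e2 : (w : Ω)⁻¹ * ((b w : ↥(V ⊔ DV)) : Ω) =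
        (v⁻¹ * ((abar ⟨v, hv⟩ : V) : Ω)) * (x⁻¹ * ((b ⟨x, hxW⟩ : ↥(V ⊔ DV)) : Ω)) := by
      rw [hw, map_mul, Subgroup.coe_mul, Subgroup.coe_mul, h1]
      calc (v * x)⁻¹ * (((abar ⟨v, hv⟩ : V) : Ω) * ((b ⟨x, hxW⟩ : ↥(V ⊔ DV)) : Ω))
          = x⁻¹ * (v⁻¹ * ((abar ⟨v, hv⟩ : V) : Ω)) * ((b ⟨x, hxW⟩ : ↥(V ⊔ DV)) : Ω) := by group
        _ = (v⁻¹ * ((abar ⟨v, hv⟩ : V) : Ω)) * x⁻¹ * ((b ⟨x, hxW⟩ : ↥(V ⊔ DV)) : Ω) := by rw [e1]
        _ = _ := by group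
    rw [e2]
    exact V.mul_mem hm h3
  -- the extender of `b` in `N_F(U)` contains `C_S(U)`
  have hext : ∀ d ∈ DU, ∃ k ∈ NS, ∀ (x : ↥(V ⊔ DV)) (hx : d * (x : Ω) * d⁻¹ ∈ V ⊔ DV),
      bh ⟨d * x * d⁻¹, hx⟩ = k * bh x * k⁻¹ := by
    intro d hd
    have hdNS : d ∈ NS := hDUNS hd
    have hdS : d ∈ S := hdNS.1
    have hdC : d ∈ Subgroup.centralizer (U : Set Ω) := by
      rw [hDU] at hd
      exact hd.2
    have hdU : ∀ u ∈ U, d * u * d⁻¹ = u := by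
      intro u hu
      have h1 := Subgroup.mem_centralizer_iff.mp hdC u hu
      rw [← h1]
      group
    obtain ⟨z, hz, htw⟩ := cse_locB_twist p h hU hUV hVT abar habarE habarU hdS (hNSV d hdNS) hdU
    have hzU : z ∈ U := cseZ_le U hz
    have hzd : z * d = d * z := Subgroup.mem_centralizer_iff.mp hdC z hzU
    have hzNS : z ∈ NS := hVNS (hUV hzU)
    have hgNS : z * d ∈ NS := NS.mul_mem hzNS hdNS
    set cd : MulAut ↥(V ⊔ DV) := conjAutHom (V ⊔ DV) ⟨d, hNSW hdNS⟩ with hcd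
    set cg : MulAut ↥(V ⊔ DV) := conjAutHom (V ⊔ DV) ⟨z * d, hNSW hgNS⟩ with hcg
    have hcdv : ∀ x : ↥(V ⊔ DV), ((cd x : ↥(V ⊔ DV)) : Ω) = d * x * d⁻¹ := fun x => rfl
    have hcgv : ∀ x : ↥(V ⊔ DV), ((cg x : ↥(V ⊔ DV)) : Ω) = z * d * x * (z * d)⁻¹ := fun x => rfl
    have hcdN : cd ∈ N.autGroup (V ⊔ DV) := Fusion.autInducedBy_le_autGroup N hWNS
      (Fusion.conjAutHom_mem_autInducedBy (V ⊔ DV) ⟨d, hNSW hdNS⟩ hdNS)
    have hcgN : cg ∈ N.autGroup (V ⊔ DV) := Fusion.autInducedBy_le_autGroup N hWNS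
      (Fusion.conjAutHom_mem_autInducedBy (V ⊔ DV) ⟨z * d, hNSW hgNS⟩ hgNS)
    set ν : MulAut ↥(V ⊔ DV) := b * cd * b⁻¹ * cg⁻¹ with hν
    have hνN : ν ∈ N.autGroup (V ⊔ DV) :=
      Subgroup.mul_mem _ (Subgroup.mul_mem _ (Subgroup.mul_mem _ hbN hcdN) (Subgroup.inv_mem _ hbN))
        (Subgroup.inv_mem _ hcgN)
    have hkey : ∀ y : ↥(V ⊔ DV), ν (cg (b y)) = b (cd y) := by
      intro y
      rw [hν]
      simp only [MulAut.mul_apply, MulAut.inv_apply_self]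
    have hsurj : ∀ x : ↥(V ⊔ DV), ∃ y : ↥(V ⊔ DV), cg (b y) = x := fun x =>
      ⟨b⁻¹ (cg⁻¹ x), by simp⟩
    have hyV : ∀ y : ↥(V ⊔ DV), (y : Ω) ∈ V → b (cd y) = cg (b y) := by
      intro y hy
      apply Subtype.ext
      have hdy : d * (y : Ω) * d⁻¹ ∈ V := (Subgroup.mem_normalizer_iff.mp (hNSV d hdNS) _).mp hy
      have h1 : ((b ⟨d * (y : Ω) * d⁻¹, hVW hdy⟩ : ↥(V ⊔ DV)) : Ω) =
          ((abar ⟨d * (y : Ω) * d⁻¹, hdy⟩ : V) : Ω) := hbV' ⟨d * y * d⁻¹, hdy⟩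
      have h2 := htw ⟨y, hy⟩ hdy
      have h3 : ((b y : ↥(V ⊔ DV)) : Ω) = ((abar ⟨y, hy⟩ : V) : Ω) := hbV' ⟨y, hy⟩
      have e1 : cd y = ⟨d * (y : Ω) * d⁻¹, hVW hdy⟩ := Subtype.ext rfl
      rw [e1, h1, h2, hcgv, h3]
      group
    have hνV : ∀ x : ↥(V ⊔ DV), (x : Ω) ∈ V → ν x = x := by
      intro x hx
      obtain ⟨y, rfl⟩ := hsurj x
      have hby : ((b y : ↥(V ⊔ DV)) : Ω) ∈ V := by
        have hgn := hNSV _ hgNS
        rw [hcgv] at hx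
        exact (Subgroup.mem_normalizer_iff.mp hgn _).mpr hx
      have hy : (y : Ω) ∈ V := by
        have h1 := hP1 b⁻¹ (Subgroup.inv_mem _ hbF) (b y) hby
        simpa using h1
      rw [hkey, hyV y hy]
    have hνW : ∀ x : ↥(V ⊔ DV), (x : Ω)⁻¹ * ((ν x : ↥(V ⊔ DV)) : Ω) ∈ V := by
      intro x
      obtain ⟨y, rfl⟩ := hsurj x
      rw [hkey, hcgv]
      have hv1 := hQ1 (cd y)
      have hv2 := hQ1 y
      rw [hcdv] at hv1
      have hyn : (y : Ω) ∈ Subgroup.normalizer (V : Set Ω) := hNSV _ (hWNS y.2)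
      have hv3 : (y : Ω)⁻¹ * z⁻¹ * y ∈ V := by
        have h1 := (Subgroup.mem_normalizer_iff.mp (Subgroup.inv_mem _ hyn) z⁻¹).mp
          (V.inv_mem (hUV hzU))
        rwa [inv_inv] at h1
      have hv4 : z * ((y : Ω)⁻¹ * ((b y : ↥(V ⊔ DV)) : Ω))⁻¹ * ((y : Ω)⁻¹ * z⁻¹ * y) ∈ V :=
        V.mul_mem (V.mul_mem (hUV hzU) (V.inv_mem hv2)) hv3
      have hv5 := (Subgroup.mem_normalizer_iff.mp (hNSV d hdNS) _).mp hv4
      have e : (z * d * ((b y : ↥(V ⊔ DV)) : Ω) * (z * d)⁻¹)⁻¹ * ((b (cd y) : ↥(V ⊔ DV)) : Ω) =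
          d * (z * ((y : Ω)⁻¹ * ((b y : ↥(V ⊔ DV)) : Ω))⁻¹ * ((y : Ω)⁻¹ * z⁻¹ * y)) * d⁻¹ *
            ((d * (y : Ω) * d⁻¹)⁻¹ * ((b (cd y) : ↥(V ⊔ DV)) : Ω)) := by
        rw [hzd]
        group
      rw [e]
      exact V.mul_mem hv5 hv1
    have hVinv : ∀ α ∈ N.autGroup (V ⊔ DV), ∀ x : ↥(V ⊔ DV), (x : Ω) ∈ V →
        ((α x : ↥(V ⊔ DV)) : Ω) ∈ V := fun α hα => hP1 α (hNF α hα)
    obtain ⟨s, hsNS, hs⟩ := cse_locB_stab_inner p hNSp N hNsat hWNS hNSW hVinv ν hνN hνV hνW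
    refine ⟨s * (z * d), NS.mul_mem hsNS hgNS, fun x hx => ?_⟩
    have e1 : (⟨d * (x : Ω) * d⁻¹, hx⟩ : ↥(V ⊔ DV)) = cd x := Subtype.ext rfl
    rw [e1, hbhx, hbhx, ← hkey x, hs, hcgv]
    group
  have hWext : V ⊔ DV ≤ extender NS (V ⊔ DV) bh :=
    Fusion.le_extender (V ⊔ DV) hWNS bh (fun x => hWNS (b x).2)
  have hDUext : DU ≤ extender NS (V ⊔ DV) bh := by
    intro d hd
    obtain ⟨k, hk, hkx⟩ := hext d hd
    exact Subgroup.subset_closure ⟨hDUNS hd, hNSW (hDUNS hd), k, hk, hkx⟩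
  have hYext : V ⊔ DU ≤ extender NS (V ⊔ DV) bh := sup_le (hVW.trans hWext) hDUext
  have hfnW : N.IsFullyNormalized (V ⊔ DV) := cse_locB_fullyNormalized N hWNS hNSW
  have hrec : N.IsReceptive (V ⊔ DV) := ((Fusion.isSaturated_iff' p hNSp N).mp hNsat).2 _ hfnW
  obtain ⟨ψ, hψ, hψext⟩ := hrec.2 (V ⊔ DV) bh hbhN (range_aut (V ⊔ DV) b)
  have hψF : ψ ∈ F.Hom (extender NS (V ⊔ DV) bh) := by
    rw [hN] at hψ
    exact hψ.1
  refine ⟨ψ.comp (Subgroup.inclusion hYext), Fusion.restrict_mem F hψF hYext, fun w hw hw' => ?_⟩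
  exact hψext w hw (hYext hw')

/-! ### The final step: a good lift over `C_S(U)` -/

/-- The three chain conditions of `cse_locB_chain` pass to powers. -/
theorem cse_locB_chain_pow {Y : Type*} [Group Y] (D E₁ Z : Subgroup Y) (hZE : Z ≤ E₁)
    (σ : MulAut Y) (h1 : ∀ d ∈ D, d⁻¹ * σ d ∈ E₁) (h2 : ∀ e ∈ E₁, e⁻¹ * σ e ∈ Z)
    (h3 : ∀ z ∈ Z, σ z ∈ Z) (k : ℕ) :
    (∀ d ∈ D, d⁻¹ * (σ ^ k) d ∈ E₁) ∧ (∀ e ∈ E₁, e⁻¹ * (σ ^ k) e ∈ Z) ∧
      (∀ z ∈ Z, (σ ^ k) z ∈ Z) := by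
  induction k with
  | zero =>
    refine ⟨fun d _ => ?_, fun e _ => ?_, fun z hz => ?_⟩
    · rw [pow_zero, MulAut.one_apply, inv_mul_cancel]
      exact Subgroup.one_mem _
    · rw [pow_zero, MulAut.one_apply, inv_mul_cancel]
      exact Subgroup.one_mem _
    · rw [pow_zero, MulAut.one_apply]
      exact hz
  | succ k ih =>
    obtain ⟨i1, i2, i3⟩ := ih
    refine ⟨fun d hd => ?_, fun e he => ?_, fun z hz => ?_⟩
    · set e := d⁻¹ * σ d with he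
      have heE : e ∈ E₁ := h1 d hd
      have hσd : σ d = d * e := by rw [he]; group
      rw [pow_succ, MulAut.mul_apply, hσd, map_mul]
      have e1 : d⁻¹ * ((σ ^ k) d * (σ ^ k) e) = (d⁻¹ * (σ ^ k) d) * e * (e⁻¹ * (σ ^ k) e) := by
        group
      rw [e1]
      exact E₁.mul_mem (E₁.mul_mem (i1 d hd) heE) (hZE (i2 e heE))
    · set z := e⁻¹ * σ e with hz
      have hzZ : z ∈ Z := h2 e he
      have hσe : σ e = e * z := by rw [hz]; group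
      rw [pow_succ, MulAut.mul_apply, hσe, map_mul]
      have e1 : e⁻¹ * ((σ ^ k) e * (σ ^ k) z) = (e⁻¹ * (σ ^ k) e) * (σ ^ k) z := by group
      rw [e1]
      exact Z.mul_mem (i2 e he) (i3 z hzZ)
    · rw [pow_succ, MulAut.mul_apply]
      exact i3 _ (h3 z hz)

theorem cse_locB_finish [Finite S] (p : ℕ) [Fact p.Prime] {F : FusionSystem S}
    {E : FusionSystem T} (h : Setup p F E) {U V DV DU : Subgroup Ω} (hU : E.IsCentric U)
    (hV : V = normalizerIn T U) (hDV : DV = centralizerIn S V) (hDU : DU = centralizerIn S U)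
    (a : MulAut U) (hcop : (orderOf a).Coprime p)
    (abar : MulAut V) (habarE : abar ∈ E.autGroup V)
    (habarU : ∀ x : V, (x : Ω) ∈ U ↔ ((abar x : V) : Ω) ∈ U)
    (habara : ∀ (u : U) (hu : (u : Ω) ∈ V), ((abar ⟨u, hu⟩ : V) : Ω) = ((a u : U) : Ω))
    (b : MulAut ↥(V ⊔ DV)) (hb : CseGood F V DV abar b)
    (bhat : ↥(V ⊔ DU) →* Ω) (hbhat : bhat ∈ F.Hom (V ⊔ DU))
    (hbb : ∀ (w : Ω) (hw : w ∈ V ⊔ DV) (hw' : w ∈ V ⊔ DU),
        bhat ⟨w, hw'⟩ = ((b ⟨w, hw⟩ : ↥(V ⊔ DV)) : Ω)) :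
    ∃ β : MulAut ↥(U ⊔ DU), CseGood F U DU a β := by
  have hTS : T ≤ S := h.le
  have hUT : U ≤ T := hU.1
  have hUS : U ≤ S := hUT.trans hTS
  have hUV : U ≤ V := by rw [hV]; exact cse_locB_le_normalizerIn hUT
  have hVT : V ≤ T := by rw [hV]; exact inf_le_left
  have hVS : V ≤ S := hVT.trans hTS
  have hDUS : DU ≤ S := by rw [hDU]; exact inf_le_left
  have hDVDU : DV ≤ DU := by
    intro x hx
    rw [hDV] at hx
    rw [hDU]
    exact ⟨hx.1, Subgroup.mem_centralizer_iff.mpr fun y hy =>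
      Subgroup.mem_centralizer_iff.mp hx.2 y (hUV hy)⟩
  have hDUC : ∀ d ∈ DU, d ∈ Subgroup.centralizer (U : Set Ω) := by
    intro d hd
    rw [hDU] at hd
    exact hd.2
  have hDVC : ∀ d ∈ DV, d ∈ Subgroup.centralizer (V : Set Ω) := by
    intro d hd
    rw [hDV] at hd
    exact hd.2
  have hPS : U ⊔ DU ≤ S := sup_le hUS hDUS
  have hPY : U ⊔ DU ≤ V ⊔ DU := sup_le_sup_right hUV DU
  haveI : Finite ↥(U ⊔ DU) := Fusion.finite_of_le hPS
  haveI : Finite V := Fusion.finite_of_le hVS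
  obtain ⟨hbF, hbV, hbD⟩ := hb
  have hbhatV : ∀ (v : Ω) (hv : v ∈ V) (hv' : v ∈ V ⊔ DU),
      bhat ⟨v, hv'⟩ = ((abar ⟨v, hv⟩ : V) : Ω) := by
    intro v hv hv'
    rw [hbb v ((le_sup_left : V ≤ V ⊔ DV) hv) hv']
    exact hbV ⟨v, hv⟩
  have hbhatU : ∀ (u : Ω) (hu : u ∈ U) (hu' : u ∈ V ⊔ DU),
      bhat ⟨u, hu'⟩ = ((a ⟨u, hu⟩ : U) : Ω) := by
    intro u hu hu'
    rw [hbhatV u (hUV hu) hu']
    exact habara ⟨u, hu⟩ (hUV hu)
  have hbhatS : ∀ y, bhat y ∈ S := (F.le_of_mem hbhat).2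
  have hZVU : cseZ V ≤ cseZ U := by
    intro t ht
    have htU : t ∈ U := by
      apply hU.2 U (Fusion.isConj_refl E hU.1)
      refine ⟨hVT ht.1, Subgroup.mem_centralizer_iff.mpr fun y hy => ?_⟩
      exact Subgroup.mem_centralizer_iff.mp ht.2 y (hUV hy)
    refine ⟨htU, Subgroup.mem_centralizer_iff.mpr fun y hy => ?_⟩
    exact Subgroup.mem_centralizer_iff.mp ht.2 y (hUV hy)
  -- the image of `d ∈ C_S(U)`
  have hbhatD : ∀ (d : Ω) (hd : d ∈ DU) (hd' : d ∈ V ⊔ DU),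
      ∃ z ∈ cseZ U, ∃ x ∈ DV, bhat ⟨d, hd'⟩ = d * z * x := by
    intro d hd hd'
    have hdS : d ∈ S := hDUS hd
    have hdC := hDUC d hd
    have hdU : ∀ u ∈ U, d * u * d⁻¹ = u := by
      intro u hu
      have h1 := Subgroup.mem_centralizer_iff.mp hdC u hu
      rw [← h1]
      group
    have hdNS : d ∈ normalizerIn S U :=
      ⟨hdS, Subgroup.centralizer_le_normalizer (U : Set Ω) hdC⟩
    have hdNV : d ∈ Subgroup.normalizer (V : Set Ω) := by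
      rw [hV]
      exact cse_locB_normalizes_V h.sc hdNS
    obtain ⟨z, hz, htw⟩ := cse_locB_twist p h hU hUV hVT abar habarE habarU hdS hdNV hdU
    have hzU : z ∈ U := cseZ_le U hz
    have hzd : z * d = d * z := Subgroup.mem_centralizer_iff.mp hdC z hzU
    set x := (z * d)⁻¹ * bhat ⟨d, hd'⟩ with hx
    have hxS : x ∈ S := S.mul_mem (S.inv_mem (S.mul_mem (hUS hzU) hdS)) (hbhatS _)
    have hxC : x ∈ Subgroup.centralizer (V : Set Ω) := by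
      rw [Subgroup.mem_centralizer_iff]
      intro y hy
      obtain ⟨v, hv⟩ : ∃ v : V, ((abar v : V) : Ω) = y := ⟨abar.symm ⟨y, hy⟩, by simp⟩
      have hdv : d * (v : Ω) * d⁻¹ ∈ V := (Subgroup.mem_normalizer_iff.mp hdNV _).mp v.2
      have h1 := htw v hdv
      have hvY : (v : Ω) ∈ V ⊔ DU := (le_sup_left : V ≤ V ⊔ DU) v.2
      have hdvY : d * (v : Ω) * d⁻¹ ∈ V ⊔ DU := (le_sup_left : V ≤ V ⊔ DU) hdv
      have e0 : (⟨d * (v : Ω) * d⁻¹, hdvY⟩ : ↥(V ⊔ DU)) = ⟨d, hd'⟩ * ⟨v, hvY⟩ * ⟨d, hd'⟩⁻¹ := rfl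
      have h2 : bhat ⟨d * (v : Ω) * d⁻¹, hdvY⟩ =
          bhat ⟨d, hd'⟩ * bhat ⟨v, hvY⟩ * (bhat ⟨d, hd'⟩)⁻¹ := by
        rw [e0, map_mul, map_mul, map_inv]
      rw [hbhatV _ hdv, hbhatV _ v.2, h1, hv] at h2
      have h3 : bhat ⟨d, hd'⟩ * y = z * d * y * d⁻¹ * z⁻¹ * bhat ⟨d, hd'⟩ := by
        rw [h2]
        group
      rw [hx]
      calc y * ((z * d)⁻¹ * bhat ⟨d, hd'⟩)
          = (z * d)⁻¹ * (z * d * y * d⁻¹ * z⁻¹ * bhat ⟨d, hd'⟩) := by group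
        _ = (z * d)⁻¹ * (bhat ⟨d, hd'⟩ * y) := by rw [h3]
        _ = (z * d)⁻¹ * bhat ⟨d, hd'⟩ * y := by group
    refine ⟨z, hz, x, ?_, ?_⟩
    · rw [hDV]
      exact ⟨hxS, hxC⟩
    · rw [hx, ← hzd]
      group
  -- restrict to `U C_S(U)`
  set f : ↥(U ⊔ DU) →* Ω := bhat.comp (Subgroup.inclusion hPY) with hf
  have hfF : f ∈ F.Hom (U ⊔ DU) := Fusion.restrict_mem F hbhat hPY
  have hfx : ∀ (y : Ω) (hy : y ∈ U ⊔ DU), f ⟨y, hy⟩ = bhat ⟨y, hPY hy⟩ := fun y hy => rfl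
  have hfP : ∀ y : ↥(U ⊔ DU), f y ∈ U ⊔ DU := by
    have hK : U ⊔ DU ≤ ((U ⊔ DU).comap f).map (U ⊔ DU).subtype := by
      refine sup_le ?_ ?_
      · intro u hu
        refine ⟨⟨u, (le_sup_left : U ≤ U ⊔ DU) hu⟩, ?_, rfl⟩
        show f ⟨u, _⟩ ∈ U ⊔ DU
        rw [hfx, hbhatU u hu]
        exact (le_sup_left : U ≤ U ⊔ DU) (a ⟨u, hu⟩).2
      · intro d hd
        refine ⟨⟨d, (le_sup_right : DU ≤ U ⊔ DU) hd⟩, ?_, rfl⟩
        show f ⟨d, _⟩ ∈ U ⊔ DU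
        obtain ⟨z, hz, x, hx, hzx⟩ := hbhatD d hd (hPY ((le_sup_right : DU ≤ U ⊔ DU) hd))
        rw [hfx, hzx]
        exact Subgroup.mul_mem _ (Subgroup.mul_mem _ ((le_sup_right : DU ≤ U ⊔ DU) hd)
          ((le_sup_left : U ≤ U ⊔ DU) (cseZ_le U hz))) ((le_sup_right : DU ≤ U ⊔ DU) (hDVDU hx))
    intro y
    obtain ⟨y', hy', hyy⟩ := hK y.2
    have e : y' = y := Subtype.ext hyy
    rw [← e]
    exact hy'
  obtain ⟨β₀, hβ₀⟩ := exists_mulAut_of_injective f (F.injective_of_mem hfF) hfP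
  have hβ₀F : β₀ ∈ F.autGroup (U ⊔ DU) := by
    rw [Fusion.mem_autGroup_iff F hPS]
    have e : (U ⊔ DU).subtype.comp β₀.toMonoidHom = f := by
      ext x
      exact (hβ₀ x).symm
    rw [e]
    exact hfF
  have hβ₀x : ∀ y : ↥(U ⊔ DU), ((β₀ y : ↥(U ⊔ DU)) : Ω) = bhat ⟨y, hPY y.2⟩ := fun y =>
    (hβ₀ y).symm
  -- the chain `C_S(U) ≥ Z(U) C_S(V) ≥ Z(U)`
  set D : Subgroup ↥(U ⊔ DU) := DU.subgroupOf (U ⊔ DU) with hD
  set E₁ : Subgroup ↥(U ⊔ DU) := (cseZ U ⊔ DV).subgroupOf (U ⊔ DU) with hE₁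
  set Z : Subgroup ↥(U ⊔ DU) := (cseZ U).subgroupOf (U ⊔ DU) with hZ
  have hZDU : cseZ U ≤ DU := by
    intro z hz
    rw [hDU]
    exact ⟨hUS hz.1, hz.2⟩
  have hZE : Z ≤ E₁ := fun y hy =>
    Subgroup.mem_subgroupOf.mpr ((le_sup_left : cseZ U ≤ cseZ U ⊔ DV) (Subgroup.mem_subgroupOf.mp hy))
  have hED : E₁ ≤ D := fun y hy =>
    Subgroup.mem_subgroupOf.mpr ((sup_le hZDU hDVDU) (Subgroup.mem_subgroupOf.mp hy))
  have h1 : ∀ d ∈ D, d⁻¹ * β₀ d ∈ E₁ := by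
    intro d hd
    have hd' : (d : Ω) ∈ DU := Subgroup.mem_subgroupOf.mp hd
    obtain ⟨z, hz, x, hx, hzx⟩ := hbhatD d hd' (hPY d.2)
    rw [hE₁, Subgroup.mem_subgroupOf, Subgroup.coe_mul, Subgroup.coe_inv, hβ₀x d, hzx]
    have e : (d : Ω)⁻¹ * (d * z * x) = z * x := by group
    rw [e]
    exact Subgroup.mul_mem _ ((le_sup_left : cseZ U ≤ cseZ U ⊔ DV) hz)
      ((le_sup_right : DV ≤ cseZ U ⊔ DV) hx)
  have h3 : ∀ z ∈ Z, β₀ z ∈ Z := by
    intro z hz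
    have hz' : (z : Ω) ∈ cseZ U := Subgroup.mem_subgroupOf.mp hz
    rw [hZ, Subgroup.mem_subgroupOf, hβ₀x z, hbhatU z (cseZ_le U hz')]
    exact cse_good_aut_mem_cseZ a ⟨z, cseZ_le U hz'⟩ hz'
  have h2 : ∀ e ∈ E₁, e⁻¹ * β₀ e ∈ Z := by
    intro e he
    have he' : (e : Ω) ∈ cseZ U ⊔ DV := Subgroup.mem_subgroupOf.mp he
    have hnorm : DV ≤ Subgroup.normalizer ((cseZ U : Subgroup Ω) : Set Ω) := by
      intro x hx
      apply Subgroup.centralizer_le_normalizer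
      rw [Subgroup.mem_centralizer_iff]
      intro y hy
      exact Subgroup.mem_centralizer_iff.mp (hDVC x hx) y (hUV (cseZ_le U hy))
    obtain ⟨z₁, hz₁, x₁, hx₁, hzx⟩ := Cfsg.Agent.Helper1.mem_sup_of_le_normalizer hnorm he'
    have hz₁U : z₁ ∈ U := cseZ_le U hz₁
    have hz₁P : z₁ ∈ U ⊔ DU := (le_sup_left : U ≤ U ⊔ DU) hz₁U
    have hx₁P : x₁ ∈ U ⊔ DU := (le_sup_right : DU ≤ U ⊔ DU) (hDVDU hx₁)
    have hx₁W : x₁ ∈ V ⊔ DV := (le_sup_right : DV ≤ V ⊔ DV) hx₁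
    have hee : e = ⟨z₁, hz₁P⟩ * ⟨x₁, hx₁P⟩ := Subtype.ext hzx
    have hfz : ((β₀ ⟨z₁, hz₁P⟩ : ↥(U ⊔ DU)) : Ω) = ((a ⟨z₁, hz₁U⟩ : U) : Ω) := by
      rw [hβ₀x]
      exact hbhatU z₁ hz₁U _
    have hfx₁ : ((β₀ ⟨x₁, hx₁P⟩ : ↥(U ⊔ DU)) : Ω) = ((b ⟨x₁, hx₁W⟩ : ↥(V ⊔ DV)) : Ω) := by
      rw [hβ₀x]
      exact hbb x₁ hx₁W _
    have hbx : x₁⁻¹ * ((b ⟨x₁, hx₁W⟩ : ↥(V ⊔ DV)) : Ω) ∈ cseZ U := hZVU (hbD ⟨x₁, hx₁W⟩ hx₁)
    have hm : z₁⁻¹ * ((a ⟨z₁, hz₁U⟩ : U) : Ω) ∈ cseZ U :=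
      Subgroup.mul_mem _ (Subgroup.inv_mem _ hz₁) (cse_good_aut_mem_cseZ a ⟨z₁, hz₁U⟩ hz₁)
    have hmx := Subgroup.mem_centralizer_iff.mp (hDVC x₁ hx₁) _ (hUV (cseZ_le U hm))
    have e1 : x₁⁻¹ * (z₁⁻¹ * ((a ⟨z₁, hz₁U⟩ : U) : Ω)) =
        (z₁⁻¹ * ((a ⟨z₁, hz₁U⟩ : U) : Ω)) * x₁⁻¹ := by
      calc x₁⁻¹ * (z₁⁻¹ * ((a ⟨z₁, hz₁U⟩ : U) : Ω))
          = x₁⁻¹ * ((z₁⁻¹ * ((a ⟨z₁, hz₁U⟩ : U) : Ω)) * x₁) * x₁⁻¹ := by group
        _ = x₁⁻¹ * (x₁ * (z₁⁻¹ * ((a ⟨z₁, hz₁U⟩ : U) : Ω))) * x₁⁻¹ := by rw [hmx]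
        _ = (z₁⁻¹ * ((a ⟨z₁, hz₁U⟩ : U) : Ω)) * x₁⁻¹ := by group
    rw [hZ, Subgroup.mem_subgroupOf, Subgroup.coe_mul, Subgroup.coe_inv, hee, map_mul,
      Subgroup.coe_mul, Subgroup.coe_mul, hfz, hfx₁]
    have e2 : (z₁ * x₁)⁻¹ * (((a ⟨z₁, hz₁U⟩ : U) : Ω) * ((b ⟨x₁, hx₁W⟩ : ↥(V ⊔ DV)) : Ω)) =
        (z₁⁻¹ * ((a ⟨z₁, hz₁U⟩ : U) : Ω)) * (x₁⁻¹ * ((b ⟨x₁, hx₁W⟩ : ↥(V ⊔ DV)) : Ω)) := by
      calc (z₁ * x₁)⁻¹ * (((a ⟨z₁, hz₁U⟩ : U) : Ω) * ((b ⟨x₁, hx₁W⟩ : ↥(V ⊔ DV)) : Ω))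
          = x₁⁻¹ * (z₁⁻¹ * ((a ⟨z₁, hz₁U⟩ : U) : Ω)) * ((b ⟨x₁, hx₁W⟩ : ↥(V ⊔ DV)) : Ω) := by
            group
        _ = (z₁⁻¹ * ((a ⟨z₁, hz₁U⟩ : U) : Ω)) * x₁⁻¹ * ((b ⟨x₁, hx₁W⟩ : ↥(V ⊔ DV)) : Ω) := by
            rw [e1]
        _ = _ := by group
    rw [e2]
    exact Subgroup.mul_mem _ hm hbx
  have hcomm : ∀ z ∈ Z, ∀ d ∈ D, z * d = d * z := by
    intro z hz d hd
    apply Subtype.ext
    rw [Subgroup.coe_mul, Subgroup.coe_mul]
    exact Subgroup.mem_centralizer_iff.mp (hDUC d (Subgroup.mem_subgroupOf.mp hd)) z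
      (cseZ_le U (Subgroup.mem_subgroupOf.mp hz))
  -- pass to a power of order prime to `p`
  haveI : Finite (MulAut ↥(U ⊔ DU)) := inferInstance
  obtain ⟨k, hk, hk1⟩ := exists_pow_coprime p β₀ (orderOf a) hcop
  have hak : a ^ k = a := by
    have h4 := (pow_eq_pow_iff_modEq (x := a)).mpr (hk1 : k ≡ 1 [MOD orderOf a])
    rw [h4, pow_one]
  have hβ₀U : ∀ u : U, β₀ (Subgroup.inclusion le_sup_left u) =
      Subgroup.inclusion le_sup_left (a u) := by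
    intro u
    apply Subtype.ext
    rw [hβ₀x]
    exact hbhatU u.1 u.2 _
  have hpowU : ∀ (n : ℕ) (u : U), (β₀ ^ n) (Subgroup.inclusion le_sup_left u) =
      Subgroup.inclusion le_sup_left ((a ^ n) u) := by
    intro n
    induction n with
    | zero =>
      intro u
      simp
    | succ n ih =>
      intro u
      rw [pow_succ, pow_succ, MulAut.mul_apply, MulAut.mul_apply, hβ₀U, ih]
  obtain ⟨k1, k2, k3⟩ := cse_locB_chain_pow D E₁ Z hZE β₀ h1 h2 h3 k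
  have hPp : IsPGroup p ↥(U ⊔ DU) := h.hS.to_le hPS
  refine ⟨β₀ ^ k, Subgroup.pow_mem _ hβ₀F k, fun u => ?_, fun x hx => ?_⟩
  · rw [hpowU, hak]
    rfl
  · have h5 := cse_locB_chain p (β₀ ^ k) hk D E₁ Z hED hZE
      (fun e _ => (IsPGroup.iff_orderOf.mp hPp) e) hcomm k1 k2 k3 x
      (Subgroup.mem_subgroupOf.mpr hx)
    exact Subgroup.mem_subgroupOf.mp h5

/-! ### Step 5 of Theorem L -/

theorem cse_local_normalizer [Finite S] (p : ℕ) [Fact p.Prime] {F : FusionSystem S}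
    {E : FusionSystem T} (h : Setup p F E) {U : Subgroup Ω} (hU : E.IsCentric U)
    (hfn : F.IsFullyNormalized U) (hUT : U ≠ T)
    (ih : ∀ V : Subgroup Ω, E.IsCentric V → Nat.card U < Nat.card V → ∀ α ∈ E.autGroup V,
      ∃ β : MulAut ↥(V ⊔ centralizerIn S V), CseGood F V (centralizerIn S V) α β)
    (a : MulAut U) (ha : a ∈ E.autGroup U) (hcop : (orderOf a).Coprime p)
    (hnorm : ∀ t ∈ autInducedBy T U, a * t * a⁻¹ ∈ autInducedBy T U) :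
    ∃ β : MulAut ↥(U ⊔ centralizerIn S U), CseGood F U (centralizerIn S U) a β := by
  have hUT' : U ≤ T := hU.1
  have hUV : U ≤ normalizerIn T U := cse_locB_le_normalizerIn hUT'
  obtain ⟨abar, habarE, habara⟩ := cse_locB_extend_to_V p h hUT' hfn a ha hnorm
  have hVc : E.IsCentric (normalizerIn T U) := cse_locB_isCentric_of_le hU hUV inf_le_left
  have hlt : Nat.card U < Nat.card (normalizerIn T U) := cse_locB_card_lt p h.hS h.le hUT' hUT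
  obtain ⟨b, hb⟩ := ih _ hVc hlt abar habarE
  have habarU : ∀ x : ↥(normalizerIn T U),
      (x : Ω) ∈ U ↔ ((abar x : ↥(normalizerIn T U)) : Ω) ∈ U := by
    intro x
    constructor
    · intro hx
      have h1 := habara ⟨x, hx⟩
      have h2 : (⟨((⟨(x : Ω), hx⟩ : U) : Ω), cse_locB_le_normalizerIn hUT' hx⟩ :
          ↥(normalizerIn T U)) = x := Subtype.ext rfl
      rw [h2] at h1
      rw [h1]
      exact (a ⟨x, hx⟩).2
    · intro hx
      have h1 := habara (a.symm ⟨_, hx⟩)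
      rw [MulEquiv.apply_symm_apply] at h1
      have h2 : abar ⟨((a.symm ⟨_, hx⟩ : U) : Ω),
          cse_locB_le_normalizerIn hUT' (a.symm ⟨_, hx⟩ : U).2⟩ = abar x := Subtype.ext h1
      have h3 := abar.injective h2
      rw [← h3]
      exact (a.symm ⟨_, hx⟩ : U).2
  obtain ⟨bhat, hbhat, hbb⟩ := cse_locB_extend p h hU hfn rfl rfl rfl abar habarE habarU b hb
  exact cse_locB_finish p h hU rfl rfl rfl a hcop abar habarE habarU (fun u hu => habara u) b hb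
    bhat hbhat hbb

end Cfsg.Agent.CSE
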