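import Mathlib
import Cfsg.Prelude.Def_FusionComponents
import Cfsg.Agent.CSE.Basic
import Cfsg.Agent.PPN.ClaimC
import Cfsg.Agent.PPN.Local
import Cfsg.Agent.Lead.FusionStrongInvD
import Cfsg.Agent.Lead.FusionExt

/-!
CSE project, piece P4 (helper7): transport (T1 of `notes/S5127_S5293_helper7.md`).
`cse_isCentric_map`: `F`-images of `E`-centric subgroups are `E`-centric.
`cse_local_transport`: the local extension theorem for `U' = ψ(U)`, `ψ ∈ Hom_F(N_S(U), S)`, gives it for `U`.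
-/

set_option autoImplicit false

namespace Cfsg.Agent.CSE

open Cfsg Cfsg.FusionSystem Cfsg.Agent.Lead Cfsg.Agent.Lead.StrongInv Cfsg.Agent.Helper6.Bcglo

variable {Ω : Type*} [Group Ω] {S T : Subgroup Ω}

/-- `F`-conjugates (inside `T`) of `E`-centric subgroups are `E`-centric. -/
theorem cse_isCentric_map [Finite S] (p : ℕ) [Fact p.Prime] {F : FusionSystem S}
    {E : FusionSystem T} (h : Setup p F E) {U : Subgroup Ω} (hU : E.IsCentric U)
    (ψ : U →* Ω) (hψ : ψ ∈ F.Hom U) : E.IsCentric ψ.range := by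
  refine ⟨?_, ?_⟩
  · rintro _ ⟨x, rfl⟩
    exact h.sc.2 U hU.1 ψ hψ x
  · rintro Q ⟨χ, hχ, rfl⟩
    have h1 : F.IsConj U χ.range :=
      Fusion.isConj_trans F ⟨ψ, hψ, rfl⟩ ⟨χ, h.sub _ hχ, rfl⟩
    exact Cfsg.Agent.PPN.ppnCen_of_isCentric F E h.inv hU _ h1

theorem cse_tr_mem_cseZ_of_map {U : Subgroup Ω} {ψ : U →* Ω} (hinj : Function.Injective ψ)
    {z : U} (hz : ψ z ∈ cseZ ψ.range) : (z : Ω) ∈ cseZ U := by
  rw [mem_cseZ] at hz ⊢
  refine ⟨z.2, fun u hu => ?_⟩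
  have h1 := hz.2 (ψ ⟨u, hu⟩) ⟨_, rfl⟩
  rw [← map_mul, ← map_mul] at h1
  exact congrArg Subtype.val (hinj h1)

/-- Transport of the local extension theorem along a map defined on `N_S(U)`. -/
theorem cse_local_transport [Finite S] (p : ℕ) [Fact p.Prime] {F : FusionSystem S}
    {E : FusionSystem T} (h : Setup p F E) {U : Subgroup Ω} (hU : E.IsCentric U)
    (ψ : ↥(normalizerIn S U) →* Ω) (hψ : ψ ∈ F.Hom (normalizerIn S U)) (U' : Subgroup Ω)
    (hU' : (U.subgroupOf (normalizerIn S U)).map ψ = U')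
    (hL : ∀ α' ∈ E.autGroup U',
      ∃ β' : MulAut ↥(U' ⊔ centralizerIn S U'), CseGood F U' (centralizerIn S U') α' β')
    (α : MulAut U) (hα : α ∈ E.autGroup U) :
    ∃ β : MulAut ↥(U ⊔ centralizerIn S U), CseGood F U (centralizerIn S U) α β := by
  have hUT : U ≤ T := hU.1
  have hUS : U ≤ S := hUT.trans h.le
  have hUN : U ≤ normalizerIn S U := Fusion.le_normalizerIn hUS
  have hCN : centralizerIn S U ≤ normalizerIn S U := Fusion.centralizerIn_le_normalizerIn U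
  have hRN : U ⊔ centralizerIn S U ≤ normalizerIn S U := sup_le hUN hCN
  have hRS : U ⊔ centralizerIn S U ≤ S := hRN.trans inf_le_left
  have hfinR : Finite ↥(U ⊔ centralizerIn S U) := Fusion.finite_of_le hRS
  have hψinj := F.injective_of_mem hψ
  -- the restriction of ψ to U and the induced isomorphism U ≃ U'
  have hψU := Fusion.restrict_mem F hψ hUN
  have hrU : (ψ.comp (Subgroup.inclusion hUN)).range = U' := by
    rw [← hU']
    ext y
    constructor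
    · rintro ⟨x, rfl⟩
      refine ⟨Subgroup.inclusion hUN x, ?_, rfl⟩
      rw [SetLike.mem_coe, Subgroup.mem_subgroupOf]
      exact x.2
    · rintro ⟨x, hx, rfl⟩
      rw [SetLike.mem_coe, Subgroup.mem_subgroupOf] at hx
      exact ⟨⟨x.1, hx⟩, rfl⟩
  set eU : U ≃* U' := Fusion.equivOfRange _ (F.injective_of_mem hψU) hrU with heU
  have heUiso : IsIso F eU := IsIso.of_hom hψU hrU
  have heUx : ∀ u : U, ((eU u : U') : Ω) = ψ ⟨u.1, hUN u.2⟩ := fun u => rfl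
  have hU'c : E.IsCentric U' := by
    have := cse_isCentric_map p h hU _ hψU
    rwa [hrU] at this
  have hU'T : U' ≤ T := hU'c.1
  have hU'S : U' ≤ S := hU'T.trans h.le
  -- the transported automorphism
  have hα' : MulAut.congr eU α ∈ E.autGroup U' :=
    Cfsg.Agent.PPN.ppn_congr_mem F E (SI_of_invariant F E h.inv) hUT heUiso hα
  obtain ⟨β', hβ'F, hβ'U, hβ'C⟩ := hL _ hα'
  have hW'S : U' ⊔ centralizerIn S U' ≤ S := sup_le hU'S inf_le_left
  have hβ'hom := (Fusion.mem_autGroup_iff F hW'S β').mp hβ'F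
  -- ψ maps U ⊔ C_S(U) into U' ⊔ C_S(U')
  have hψC : ∀ d : Ω, ∀ hd : d ∈ centralizerIn S U, ψ ⟨d, hCN hd⟩ ∈ centralizerIn S U' := by
    intro d hd
    refine Subgroup.mem_inf.mpr ⟨Fusion.map_mem F hψ _, ?_⟩
    rw [Subgroup.mem_centralizer_iff]
    intro y hy
    rw [SetLike.mem_coe, ← hrU] at hy
    obtain ⟨u, rfl⟩ := hy
    show ψ ⟨u.1, hUN u.2⟩ * ψ ⟨d, hCN hd⟩ = ψ ⟨d, hCN hd⟩ * ψ ⟨u.1, hUN u.2⟩
    rw [← map_mul, ← map_mul]
    congr 1
    apply Subtype.ext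
    exact (Subgroup.mem_centralizer_iff.mp (Subgroup.mem_inf.mp hd).2) u.1 u.2
  have hψW : ∀ r : ↥(U ⊔ centralizerIn S U), ψ ⟨r.1, hRN r.2⟩ ∈ U' ⊔ centralizerIn S U' := by
    intro r
    have hle : U ⊔ centralizerIn S U ≤
        ((U' ⊔ centralizerIn S U').comap ψ).map (normalizerIn S U).subtype := by
      apply sup_le
      · intro u hu
        refine ⟨⟨u, hUN hu⟩, ?_, rfl⟩
        rw [SetLike.mem_coe, Subgroup.mem_comap]
        apply (le_sup_left : U' ≤ U' ⊔ centralizerIn S U')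
        rw [← hrU]
        exact ⟨⟨u, hu⟩, rfl⟩
      · intro d hd
        refine ⟨⟨d, hCN hd⟩, ?_, rfl⟩
        rw [SetLike.mem_coe, Subgroup.mem_comap]
        exact (le_sup_right : centralizerIn S U' ≤ U' ⊔ centralizerIn S U') (hψC d hd)
    obtain ⟨n, hn, hnr⟩ := hle r.2
    rw [SetLike.mem_coe, Subgroup.mem_comap] at hn
    have : n = ⟨r.1, hRN r.2⟩ := Subtype.ext hnr
    rwa [this] at hn
  -- the restriction of ψ to R = U ⊔ C_S(U)
  have hψR := Fusion.restrict_mem F hψ hRN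
  set ψR : ↥(U ⊔ centralizerIn S U) →* Ω := ψ.comp (Subgroup.inclusion hRN) with hψRdef
  have hψRx : ∀ r : ↥(U ⊔ centralizerIn S U), ψR r = ψ ⟨r.1, hRN r.2⟩ := fun r => rfl
  have hψRinj := F.injective_of_mem hψR
  -- values of β' ∘ ψ on U and on C_S(U)
  have key1 : ∀ u : U, ((β' ⟨ψR (Subgroup.inclusion le_sup_left u), hψW _⟩ :
      ↥(U' ⊔ centralizerIn S U')) : Ω) = ψR (Subgroup.inclusion le_sup_left (α u)) := by
    intro u
    have h1 := hβ'U (eU u)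
    have h2 : (Subgroup.inclusion (le_sup_left : U' ≤ U' ⊔ centralizerIn S U') (eU u)) =
        ⟨ψR (Subgroup.inclusion le_sup_left u), hψW _⟩ := Subtype.ext rfl
    rw [h2] at h1
    rw [h1]
    show ((eU (α (eU.symm (eU u))) : U') : Ω) = _
    rw [MulEquiv.symm_apply_apply]
    rfl
  have key2 : ∀ (d : ↥(U ⊔ centralizerIn S U)), (d : Ω) ∈ centralizerIn S U →
      ∃ z : U, (z : Ω) ∈ cseZ U ∧
        ((β' ⟨ψR d, hψW _⟩ : ↥(U' ⊔ centralizerIn S U')) : Ω) =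
          ψR (d * Subgroup.inclusion le_sup_left z) := by
    intro d hd
    have h1 := hβ'C ⟨ψR d, hψW d⟩ (hψC d.1 hd)
    have h2 : ((⟨ψR d, hψW d⟩ : ↥(U' ⊔ centralizerIn S U')) : Ω)⁻¹ *
        ((β' ⟨ψR d, hψW d⟩ : ↥(U' ⊔ centralizerIn S U')) : Ω) ∈ U' := cseZ_le U' h1
    have h2' : ((⟨ψR d, hψW d⟩ : ↥(U' ⊔ centralizerIn S U')) : Ω)⁻¹ *
        ((β' ⟨ψR d, hψW d⟩ : ↥(U' ⊔ centralizerIn S U')) : Ω) ∈
          (ψ.comp (Subgroup.inclusion hUN)).range := by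
      rw [hrU]; exact h2
    obtain ⟨z, hz⟩ := h2'
    refine ⟨z, ?_, ?_⟩
    · apply cse_tr_mem_cseZ_of_map (F.injective_of_mem hψU)
      rw [hz, hrU]
      exact h1
    · rw [map_mul]
      have h3 : ψR (Subgroup.inclusion le_sup_left z) = (ψ.comp (Subgroup.inclusion hUN)) z := rfl
      rw [h3, hz]
      show _ = ψR d * ((ψR d)⁻¹ * _)
      rw [mul_inv_cancel_left]
  -- β' ∘ ψ maps R into ψ(R)
  have key3 : ∀ r : ↥(U ⊔ centralizerIn S U),
      ((β' ⟨ψR r, hψW r⟩ : ↥(U' ⊔ centralizerIn S U')) : Ω) ∈ ψR.range := by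
    intro r
    have hle : U ⊔ centralizerIn S U ≤
        ((ψR.range.subgroupOf (U' ⊔ centralizerIn S U')).comap
          (β'.toMonoidHom.comp (ψR.codRestrict (U' ⊔ centralizerIn S U') hψW))).map
            (U ⊔ centralizerIn S U).subtype := by
      apply sup_le
      · intro u hu
        refine ⟨Subgroup.inclusion le_sup_left ⟨u, hu⟩, ?_, rfl⟩
        rw [SetLike.mem_coe, Subgroup.mem_comap, Subgroup.mem_subgroupOf]
        show ((β' ⟨ψR _, hψW _⟩ : ↥(U' ⊔ centralizerIn S U')) : Ω) ∈ ψR.range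
        rw [key1]
        exact ⟨_, rfl⟩
      · intro d hd
        refine ⟨⟨d, (le_sup_right : centralizerIn S U ≤ U ⊔ centralizerIn S U) hd⟩, ?_, rfl⟩
        rw [SetLike.mem_coe, Subgroup.mem_comap, Subgroup.mem_subgroupOf]
        show ((β' ⟨ψR _, hψW _⟩ : ↥(U' ⊔ centralizerIn S U')) : Ω) ∈ ψR.range
        obtain ⟨z, -, hz⟩ := key2 ⟨d, (le_sup_right : centralizerIn S U ≤ U ⊔ centralizerIn S U) hd⟩ hd
        rw [hz]
        exact ⟨_, rfl⟩
    obtain ⟨n, hn, hnr⟩ := hle r.2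
    rw [SetLike.mem_coe, Subgroup.mem_comap, Subgroup.mem_subgroupOf] at hn
    have : n = r := Subtype.ext hnr
    rw [this] at hn
    exact hn
  -- the composite χ = ψR⁻¹ ∘ β' ∘ ψR
  have hφ1 := F.comp_mem hψR hβ'hom hψW
  set φ1 : ↥(U ⊔ centralizerIn S U) →* Ω :=
    ((U' ⊔ centralizerIn S U').subtype.comp β'.toMonoidHom).comp
      (ψR.codRestrict (U' ⊔ centralizerIn S U') hψW) with hφ1def
  have hφ1x : ∀ r, φ1 r = ((β' ⟨ψR r, hψW r⟩ : ↥(U' ⊔ centralizerIn S U')) : Ω) := fun r => rfl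
  obtain ⟨ι, hι, hιv⟩ := F.inv_mem hψR
  have hφ1r : ∀ r, φ1 r ∈ ψR.range := fun r => by rw [hφ1x]; exact key3 r
  have hχ := F.comp_mem hφ1 hι hφ1r
  set χ : ↥(U ⊔ centralizerIn S U) →* Ω := ι.comp (φ1.codRestrict ψR.range hφ1r) with hχdef
  -- χ(r) = r' whenever β'(ψ r) = ψ r'
  have hχv : ∀ r r' : ↥(U ⊔ centralizerIn S U),
      ((β' ⟨ψR r, hψW r⟩ : ↥(U' ⊔ centralizerIn S U')) : Ω) = ψR r' → χ r = (r' : Ω) := by
    intro r r' hrr'
    rw [← hιv r']
    show ι ⟨φ1 r, hφ1r r⟩ = _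
    have h1 : φ1 r = ψR r' := by rw [hφ1x, hrr']
    exact app_congr ι _ _ h1
  have hχR : ∀ r, χ r ∈ U ⊔ centralizerIn S U := by
    intro r
    obtain ⟨r', hr'⟩ := key3 r
    rw [hχv r r' hr'.symm]
    exact r'.2
  have hχrange : χ.range = U ⊔ centralizerIn S U := by
    apply Subgroup.eq_of_le_of_card_ge
    · rintro _ ⟨r, rfl⟩
      exact hχR r
    · exact le_of_eq (Nat.card_congr (Equiv.ofInjective χ (F.injective_of_mem hχ)))
  obtain ⟨β, hβ, hβx⟩ := Fusion.exists_aut_of_range_eq F hχ hχrange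
  refine ⟨β, hβ, ?_, ?_⟩
  · intro u
    rw [hβx]
    exact hχv _ _ (key1 u)
  · intro d hd
    obtain ⟨z, hz, hzv⟩ := key2 d hd
    rw [hβx, hχv _ _ hzv]
    show (d : Ω)⁻¹ * ((d : Ω) * (z : Ω)) ∈ cseZ U
    rw [inv_mul_cancel_left]
    exact hz

end Cfsg.Agent.CSE
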