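import Mathlib
import Cfsg.Prelude.Def_FusionComponents
import Cfsg.Agent.CSE.Basic
import Cfsg.Agent.CSE.Transport
import Cfsg.Agent.CSE.LocalA
import Cfsg.Agent.CSE.LocalB
import Cfsg.Agent.Lead.FusionSat2

/-!
CSE project, piece P4 (helper7): the local extension theorem (Theorem L of
`notes/S5127_S5293_helper7.md`) for every `E`-centric subgroup, by induction on `|T : U|`, from the
fully normalized case (`cse_local_of_normalizer`, `cse_local_normalizer`) and transport.
-/

set_option autoImplicit false

namespace Cfsg.Agent.CSE

open Cfsg Cfsg.FusionSystem Cfsg.Agent.Lead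

variable {Ω : Type*} [Group Ω] {S T : Subgroup Ω}

theorem cse_local [Finite S] (p : ℕ) [Fact p.Prime] {F : FusionSystem S} {E : FusionSystem T}
    (h : Setup p F E) {U : Subgroup Ω} (hU : E.IsCentric U) (α : MulAut U) (hα : α ∈ E.autGroup U) :
    ∃ β : MulAut ↥(U ⊔ centralizerIn S U), CseGood F U (centralizerIn S U) α β := by
  have hfinT : Finite T := Fusion.finite_of_le h.le
  -- induction on |T| - |U|
  have main : ∀ n : ℕ, ∀ U : Subgroup Ω, E.IsCentric U → Nat.card T - Nat.card U = n →
      ∀ α ∈ E.autGroup U,
        ∃ β : MulAut ↥(U ⊔ centralizerIn S U), CseGood F U (centralizerIn S U) α β := by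
    intro n
    induction n using Nat.strong_induction_on with
    | _ n ih =>
      intro U hU hn α hα
      have hUT : U ≤ T := hU.1
      have hUS : U ≤ S := hUT.trans h.le
      by_cases hUeq : U = T
      · subst hUeq
        obtain ⟨β, hβ, hβ1, hβ2⟩ := h.nrm.2 α hα
        exact ⟨β, hβ, hβ1, hβ2⟩
      · -- a fully normalized conjugate
        obtain ⟨Q, hUQ, hQ₁, hQ₂⟩ := h.sat U hUS
        obtain ⟨ψ, hψ, -, hψU⟩ :=
          Fusion.exists_hom_normalizerIn p h.hS F hQ₁ hQ₂ hUQ
        have hQfn : F.IsFullyNormalized Q := Fusion.fullyNormalized_of_FAR p h.hS F hQ₁ hQ₂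
        have hUN : U ≤ normalizerIn S U := Fusion.le_normalizerIn hUS
        have hψUmem := Fusion.restrict_mem F hψ hUN
        have hrU : (ψ.comp (Subgroup.inclusion hUN)).range = Q := by
          rw [← hψU]
          ext y
          constructor
          · rintro ⟨x, rfl⟩
            refine ⟨Subgroup.inclusion hUN x, ?_, rfl⟩
            rw [SetLike.mem_coe, Subgroup.mem_subgroupOf]
            exact x.2
          · rintro ⟨x, hx, rfl⟩
            rw [SetLike.mem_coe, Subgroup.mem_subgroupOf] at hx
            exact ⟨⟨x.1, hx⟩, rfl⟩
        have hQc : E.IsCentric Q := by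
          have := cse_isCentric_map p h hU _ hψUmem
          rwa [hrU] at this
        have hcard : Nat.card Q = Nat.card U := by
          rw [← hrU]
          exact (Nat.card_congr (Equiv.ofInjective _ (F.injective_of_mem hψUmem))).symm
        have hQT : Q ≠ T := by
          intro hQT
          apply hUeq
          have : Finite T := hfinT
          apply Subgroup.eq_of_le_of_card_ge hUT
          rw [← hcard, hQT]
        -- the induction hypothesis for larger subgroups
        have ihQ : ∀ V : Subgroup Ω, E.IsCentric V → Nat.card Q < Nat.card V →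
            ∀ α ∈ E.autGroup V,
              ∃ β : MulAut ↥(V ⊔ centralizerIn S V), CseGood F V (centralizerIn S V) α β := by
          intro V hV hlt α' hα'
          have hVT : V ≤ T := hV.1
          have hVle : Nat.card V ≤ Nat.card T := Subgroup.card_le_of_le hVT
          have hUle : Nat.card U ≤ Nat.card T := Subgroup.card_le_of_le hUT
          refine ih (Nat.card T - Nat.card V) ?_ V hV rfl α' hα'
          rw [← hn]
          rw [hcard] at hlt
          omega
        apply cse_local_transport p h hU ψ hψ Q hψU _ α hα
        intro α' hα'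
        apply cse_local_of_normalizer p h hQc hQfn _ α' hα'
        intro a ha hcop hnorm
        exact cse_local_normalizer p h hQc hQfn hQT ihQ a ha hcop hnorm
  exact main _ U hU rfl α hα

end Cfsg.Agent.CSE
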