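import Mathlib
import Cfsg.Prelude.Def_FusionComponents
import Cfsg.Agent.CSE.Basic
import Cfsg.Agent.CSE.Transport
import Cfsg.Agent.CSE.Local
import Cfsg.Agent.PPN.Local
import Cfsg.Agent.Lead.SylowLemmas
import Cfsg.Agent.Helper6.BcgloA

/-!
CSE project, piece P5: Lemma U1 (`cse_comm_fixed`).

`U` an `E`-centric subgroup, `X ≤ C_S(U)`, `κ ∈ Aut_F(U X)` the identity on `U` with
`δ(x) = x⁻¹ κ(x) ∈ Z(U)` for `x ∈ X`.  Then every `α ∈ Aut_E(U)` fixes every `δ(x)`.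

Proof (a variant of the one in `notes/S5127_S5293_helper7.md` that needs neither `C_F(U)` nor a fully
normalized conjugate of `U`): `κ` is a `p`-element of `Aut_F(U X)`; moving `U X` to a fully automized
`F`-conjugate `Q` by an isomorphism `e` of `F` and conjugating inside `Aut_F(Q)` into the Sylow subgroup
`Aut_S(Q)`, we may assume `e κ e⁻¹ = c_s` with `s ∈ S`.  Then `s` and `y = e x` centralize `U₁ = e U`,
`e (δ x) = y⁻¹ s y s⁻¹`, and a good lift (Theorem L) of the transported automorphism `e α e⁻¹ ∈ Aut_E(U₁)` over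
`C_S(U₁)` fixes this commutator because it moves `y` and `s` by elements of `Z(U₁)`.
-/

set_option autoImplicit false

namespace Cfsg.Agent.CSE

open Cfsg Cfsg.FusionSystem Cfsg.Agent.Lead Cfsg.Agent.Lead.StrongInv Cfsg.Agent.Helper6.Bcglo

variable {Ω : Type*} [Group Ω] {S T : Subgroup Ω}

/-- A commutator computation: central factors cancel. -/
theorem cse_comm_cancel {G : Type*} [Group G] (a b z₁ z₂ : G) (h1a : Commute z₁ a)
    (h1b : Commute z₁ b) (h2a : Commute z₂ a) (h12 : Commute z₁ z₂) :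
    (a * z₁)⁻¹ * (b * z₂) * (a * z₁) * (b * z₂)⁻¹ = a⁻¹ * b * a * b⁻¹ := by
  have e1 : (a * z₁)⁻¹ * (b * z₂) * (a * z₁) = a⁻¹ * (b * z₂) * a := by
    have hc : Commute z₁ (b * z₂) := h1b.mul_right h12
    calc (a * z₁)⁻¹ * (b * z₂) * (a * z₁)
        = z₁⁻¹ * a⁻¹ * (b * z₂) * (a * z₁) := by rw [mul_inv_rev]
      _ = a⁻¹ * z₁⁻¹ * (b * z₂) * (z₁ * a) := by
          rw [(h1a.inv_left.inv_right).eq, h1a.eq]
      _ = a⁻¹ * (z₁⁻¹ * ((b * z₂) * z₁)) * a := by simp only [mul_assoc]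
      _ = a⁻¹ * (z₁⁻¹ * (z₁ * (b * z₂))) * a := by rw [hc.eq]
      _ = a⁻¹ * (b * z₂) * a := by rw [inv_mul_cancel_left]
  rw [e1]
  calc a⁻¹ * (b * z₂) * a * (b * z₂)⁻¹
      = a⁻¹ * b * (z₂ * a) * (z₂⁻¹ * b⁻¹) := by rw [mul_inv_rev]; simp only [mul_assoc]
    _ = a⁻¹ * b * (a * z₂) * (z₂⁻¹ * b⁻¹) := by rw [h2a.eq]
    _ = a⁻¹ * b * a * b⁻¹ := by simp only [mul_assoc, mul_inv_cancel_left]

/-- `κ` as in U1 has order dividing `|U|`. -/
theorem cse_comm_pow_card {F : FusionSystem S} {U X : Subgroup Ω} [Finite U]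
    (κ : MulAut ↥(U ⊔ X)) (hκ : CseGood F U X 1 κ) : κ ^ Nat.card U = 1 := by
  obtain ⟨-, hκU, hκX⟩ := hκ
  -- `κ` fixes the elements of `U`
  have hfixU : ∀ u : U, κ (Subgroup.inclusion le_sup_left u) = Subgroup.inclusion le_sup_left u := by
    intro u
    apply Subtype.ext
    rw [hκU u]
    rfl
  have hpowU : ∀ (n : ℕ) (u : U),
      (κ ^ n) (Subgroup.inclusion le_sup_left u) = Subgroup.inclusion le_sup_left u := by
    intro n
    induction n with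
    | zero => intro u; rfl
    | succ n ih =>
      intro u
      rw [pow_succ, MulAut.mul_apply, hfixU, ih]
  have hpowX : ∀ (x : ↥(U ⊔ X)), (x : Ω) ∈ X → (κ ^ Nat.card U) x = x := by
    intro x hx
    have hd := hκX x hx
    set d : U := ⟨(x : Ω)⁻¹ * ((κ x : ↥(U ⊔ X)) : Ω), cseZ_le U hd⟩ with hddef
    have hκx : κ x = x * Subgroup.inclusion le_sup_left d := by
      apply Subtype.ext
      show ((κ x : ↥(U ⊔ X)) : Ω) = (x : Ω) * ((x : Ω)⁻¹ * ((κ x : ↥(U ⊔ X)) : Ω))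
      rw [mul_inv_cancel_left]
    have hpow : ∀ n : ℕ, (κ ^ n) x = x * (Subgroup.inclusion le_sup_left d) ^ n := by
      intro n
      induction n with
      | zero => simp
      | succ n ih =>
        rw [pow_succ', MulAut.mul_apply, ih, map_mul, map_pow, hfixU, hκx, mul_assoc, ← pow_succ']
    rw [hpow, ← map_pow, pow_card_eq_one', map_one, mul_one]
  have h1 : (κ ^ Nat.card U).toMonoidHom = (1 : MulAut ↥(U ⊔ X)).toMonoidHom := by
    apply Fusion.sup_hom_ext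
    · intro u
      exact hpowU _ u
    · intro x
      exact hpowX _ x.2
  ext y
  have := congrArg (fun f : ↥(U ⊔ X) →* ↥(U ⊔ X) => (f y : Ω)) h1
  exact this

/-- A `p`-element of `Aut_F(P)` becomes conjugation by an element of `S` after moving `P` by a suitable
isomorphism of the saturated system `F`. -/
theorem cse_comm_exists_conj [Finite S] (p : ℕ) [Fact p.Prime] (F : FusionSystem S)
    (hF : F.IsSaturated p) {P : Subgroup Ω} (hP : P ≤ S) (κ : MulAut P) (hκ : κ ∈ F.autGroup P)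
    (n : ℕ) (hκp : κ ^ (p ^ n) = 1) :
    ∃ (Q : Subgroup Ω) (e : P ≃* Q), IsIso F e ∧
      ∃ s ∈ S, ∀ y : P, ((e (κ y) : Q) : Ω) = s * ((e y : Q) : Ω) * s⁻¹ := by
  obtain ⟨Q, ⟨φ, hφ, hr⟩, ⟨hQS, R, hR⟩, -⟩ := hF P hP
  have hfinQ : Finite Q := Fusion.finite_of_le hQS
  have hfinA : Finite (MulAut Q) := inferInstance
  set e₀ := Fusion.equivOfRange φ (F.injective_of_mem hφ) hr with he₀def
  have he₀ : IsIso F e₀ := IsIso.of_hom hφ hr
  have hκ' : MulAut.congr e₀ κ ∈ F.autGroup Q := he₀.congr_mem hκ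
  set k' : F.autGroup Q := ⟨MulAut.congr e₀ κ, hκ'⟩ with hk'def
  have hk'pow : k' ^ (p ^ n) = 1 := by
    apply Subtype.ext
    show (MulAut.congr e₀ κ) ^ (p ^ n) = 1
    rw [← map_pow, hκp, map_one]
  have hpg : IsPGroup p (Subgroup.zpowers k') := by
    rintro ⟨g, hg⟩
    obtain ⟨m, rfl⟩ := Subgroup.mem_zpowers_iff.mp hg
    refine ⟨n, ?_⟩
    apply Subtype.ext
    show (k' ^ m) ^ (p ^ n) = 1
    rw [← zpow_natCast, ← zpow_mul, mul_comm, zpow_mul, zpow_natCast, hk'pow, one_zpow]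
  obtain ⟨g, hg⟩ := exists_conj_le_sylow R (Subgroup.zpowers k') hpg
  have hmem : g * k' * g⁻¹ ∈ (R : Subgroup (F.autGroup Q)) := by
    apply hg
    exact ⟨k', Subgroup.mem_zpowers k', rfl⟩
  rw [hR, Subgroup.mem_subgroupOf] at hmem
  obtain ⟨s, hsS, hs⟩ := (mem_autInducedBy_iff S Q _).mp hmem
  have hgI : IsIso F (g.1 : Q ≃* Q) := (isIso_iff_mem_autGroup F hQS g.1).mpr g.2
  refine ⟨Q, e₀.trans (g.1 : Q ≃* Q), he₀.trans hgI, s, hsS, fun y => ?_⟩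
  have h1 := hs ((g.1 : Q ≃* Q) (e₀ y))
  show (((g.1 : MulAut Q) (e₀ (κ y)) : Q) : Ω) = s * (((g.1 : MulAut Q) (e₀ y) : Q) : Ω) * s⁻¹
  refine Eq.trans ?_ h1
  show (((g.1 : MulAut Q) (e₀ (κ y)) : Q) : Ω) =
    ((((g * k' * g⁻¹ : F.autGroup Q) : MulAut Q) ((g.1 : MulAut Q) (e₀ y)) : Q) : Ω)
  have h2 : ((g * k' * g⁻¹ : F.autGroup Q) : MulAut Q) = g.1 * MulAut.congr e₀ κ * g.1⁻¹ := rfl
  rw [h2, MulAut.mul_apply, MulAut.mul_apply, MulAut.inv_apply_self]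
  show _ = (((g.1 : MulAut Q) (e₀ (κ (e₀.symm (e₀ y)))) : Q) : Ω)
  rw [MulEquiv.symm_apply_apply]

/-- **Lemma U1**: the commutators `x⁻¹ κ(x)` are fixed by `Aut_E(U)`. -/
theorem cse_comm_fixed [Finite S] (p : ℕ) [Fact p.Prime] {F : FusionSystem S} {E : FusionSystem T}
    (h : Setup p F E) {U : Subgroup Ω} (hU : E.IsCentric U) {X : Subgroup Ω}
    (hX : X ≤ centralizerIn S U) (κ : MulAut ↥(U ⊔ X)) (hκ : CseGood F U X 1 κ)
    (α : MulAut U) (hα : α ∈ E.autGroup U) (x : ↥(U ⊔ X)) (hx : (x : Ω) ∈ X)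
    (hz : (x : Ω)⁻¹ * ((κ x : ↥(U ⊔ X)) : Ω) ∈ U) :
    ((α ⟨_, hz⟩ : U) : Ω) = (x : Ω)⁻¹ * ((κ x : ↥(U ⊔ X)) : Ω) := by
  have hUT : U ≤ T := hU.1
  have hTS : T ≤ S := h.le
  have hUS : U ≤ S := hUT.trans hTS
  have hXS : X ≤ S := hX.trans inf_le_left
  have hPS : U ⊔ X ≤ S := sup_le hUS hXS
  have hfinU : Finite U := Fusion.finite_of_le hUS
  -- `κ` is a `p`-element
  obtain ⟨n, hn⟩ : ∃ n, Nat.card U = p ^ n := (IsPGroup.iff_card).mp (h.hS.to_le hUS)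
  have hκp : κ ^ (p ^ n) = 1 := by
    rw [← hn]
    exact cse_comm_pow_card κ hκ
  obtain ⟨Q, e, he, s, hsS, hs⟩ := cse_comm_exists_conj p F h.sat hPS κ hκ.1 n hκp
  have hQS : Q ≤ S := he.tgt_le
  -- the restriction of `e` to `U`
  set ψ : U →* Ω := (Q.subtype.comp e.toMonoidHom).comp (Subgroup.inclusion le_sup_left) with hψdef
  have hψ : ψ ∈ F.Hom U := Fusion.restrict_mem F he le_sup_left
  have hψinj : Function.Injective ψ := F.injective_of_mem hψ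
  have hψval : ∀ u : U, ψ u = ((e (Subgroup.inclusion le_sup_left u) : Q) : Ω) := fun _ => rfl
  have hU₁c : E.IsCentric ψ.range := cse_isCentric_map p h hU ψ hψ
  set eU : U ≃* ψ.range := Fusion.equivOfRange ψ hψinj rfl with heUdef
  have heU : IsIso F eU := IsIso.of_hom hψ rfl
  have heUval : ∀ u : U, ((eU u : ψ.range) : Ω) = ψ u := fun _ => rfl
  have hSI : SI F E := SI_of_invariant F E h.inv
  have hα₁ : MulAut.congr eU α ∈ E.autGroup ψ.range := Cfsg.Agent.PPN.ppn_congr_mem F E hSI hUT heU hα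
  obtain ⟨β₁, -, hβU, hβD⟩ := cse_local p h hU₁c (MulAut.congr eU α) hα₁
  -- `κ` fixes `U`
  have hfixU : ∀ u : U, κ (Subgroup.inclusion le_sup_left u) = Subgroup.inclusion le_sup_left u := by
    intro u
    apply Subtype.ext
    rw [hκ.2.1 u]
    rfl
  -- `y = e x` and `s` centralize `U₁`
  have hyD : ((e x : Q) : Ω) ∈ centralizerIn S ψ.range := by
    refine Subgroup.mem_inf.mpr ⟨hQS (e x).2, ?_⟩
    rw [Subgroup.mem_centralizer_iff]
    rintro _ ⟨u, rfl⟩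
    rw [hψval]
    have hxu : Subgroup.inclusion le_sup_left u * x = x * Subgroup.inclusion le_sup_left u := by
      apply Subtype.ext
      have := (Subgroup.mem_centralizer_iff.mp (Subgroup.mem_inf.mp (hX hx)).2) u.1 u.2
      exact this
    have := congrArg (fun t : ↥(U ⊔ X) => ((e t : Q) : Ω)) hxu
    simpa only [map_mul, Subgroup.coe_mul] using this
  have hsD : s ∈ centralizerIn S ψ.range := by
    refine Subgroup.mem_inf.mpr ⟨hsS, ?_⟩
    rw [Subgroup.mem_centralizer_iff]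
    rintro _ ⟨u, rfl⟩
    rw [hψval]
    have h1 := hs (Subgroup.inclusion le_sup_left u)
    rw [hfixU u] at h1
    calc ((e (Subgroup.inclusion le_sup_left u) : Q) : Ω) * s
        = (s * ((e (Subgroup.inclusion le_sup_left u) : Q) : Ω) * s⁻¹) * s := by rw [← h1]
      _ = s * ((e (Subgroup.inclusion le_sup_left u) : Q) : Ω) := by
          rw [inv_mul_cancel_right]
  -- the commutator
  have hcomm : ((e x : Q) : Ω)⁻¹ * s * ((e x : Q) : Ω) * s⁻¹ = ψ ⟨_, hz⟩ := by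
    have h1 := hs x
    have h2 : x⁻¹ * κ x = Subgroup.inclusion le_sup_left (⟨_, hz⟩ : U) := Subtype.ext rfl
    have h3 := congrArg (fun t : ↥(U ⊔ X) => ((e t : Q) : Ω)) h2
    simp only [map_mul, map_inv, Subgroup.coe_mul, Subgroup.coe_inv] at h3
    rw [hψval, ← h3, h1]
    simp only [mul_assoc]
  -- the good lift
  set y₁ : ↥(ψ.range ⊔ centralizerIn S ψ.range) := ⟨((e x : Q) : Ω), (le_sup_right : _ ≤ ψ.range ⊔ _) hyD⟩
    with hy₁def
  set s₁ : ↥(ψ.range ⊔ centralizerIn S ψ.range) := ⟨s, (le_sup_right : _ ≤ ψ.range ⊔ _) hsD⟩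
    with hs₁def
  have hzy := hβD y₁ hyD
  have hzs := hβD s₁ hsD
  rw [mem_cseZ] at hzy hzs
  have hcy : ∀ w ∈ ψ.range, Commute w ((e x : Q) : Ω) := fun w hw =>
    (Subgroup.mem_centralizer_iff.mp (Subgroup.mem_inf.mp hyD).2) w hw
  have hcs : ∀ w ∈ ψ.range, Commute w s := fun w hw =>
    (Subgroup.mem_centralizer_iff.mp (Subgroup.mem_inf.mp hsD).2) w hw
  have hβy : ((β₁ y₁ : ↥(ψ.range ⊔ centralizerIn S ψ.range)) : Ω) =
      ((e x : Q) : Ω) * (((e x : Q) : Ω)⁻¹ * ((β₁ y₁ : ↥(ψ.range ⊔ centralizerIn S ψ.range)) : Ω)) := by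
    rw [mul_inv_cancel_left]
  have hβs : ((β₁ s₁ : ↥(ψ.range ⊔ centralizerIn S ψ.range)) : Ω) =
      s * (s⁻¹ * ((β₁ s₁ : ↥(ψ.range ⊔ centralizerIn S ψ.range)) : Ω)) := by
    rw [mul_inv_cancel_left]
  have hβw : ((β₁ (y₁⁻¹ * s₁ * y₁ * s₁⁻¹) : ↥(ψ.range ⊔ centralizerIn S ψ.range)) : Ω) =
      ((e x : Q) : Ω)⁻¹ * s * ((e x : Q) : Ω) * s⁻¹ := by
    rw [map_mul, map_mul, map_mul, map_inv, map_inv]
    simp only [Subgroup.coe_mul, Subgroup.coe_inv]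
    rw [hβy, hβs]
    exact cse_comm_cancel _ _ _ _ (hcy _ hzy.1) (hcs _ hzy.1) (hcy _ hzs.1)
      ((hzs.2 _ hzy.1))
  -- the commutator lies in `U₁`, where `β₁` is the transported `α`
  have hw : y₁⁻¹ * s₁ * y₁ * s₁⁻¹ = Subgroup.inclusion le_sup_left (eU ⟨_, hz⟩) := by
    apply Subtype.ext
    show ((e x : Q) : Ω)⁻¹ * s * ((e x : Q) : Ω) * s⁻¹ = ((eU ⟨_, hz⟩ : ψ.range) : Ω)
    rw [heUval, hcomm]
  have h4 := hβU (eU ⟨_, hz⟩)
  rw [← hw, hβw, hcomm] at h4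
  have h5 : (((MulAut.congr eU α) (eU ⟨_, hz⟩) : ψ.range) : Ω) = ψ (α ⟨_, hz⟩) := by
    show ((eU (α (eU.symm (eU ⟨_, hz⟩))) : ψ.range) : Ω) = ψ (α ⟨_, hz⟩)
    rw [MulEquiv.symm_apply_apply, heUval]
  rw [h5] at h4
  have h6 := hψinj h4.symm
  exact congrArg Subtype.val h6

end Cfsg.Agent.CSE
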