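import Mathlib
import Cfsg.Prelude.Def_FusionComponents
import Cfsg.Agent.CSE.Basic
import Cfsg.Agent.CSE.Restrict
import Cfsg.Agent.CSE.Comm

/-!
CSE project, piece P6 (helper7): uniqueness of good lifts of order prime to `p`
(Lemma U2 of `notes/S5127_S5293_helper7.md`).
-/

set_option autoImplicit false

namespace Cfsg.Agent.CSE

open Cfsg Cfsg.FusionSystem Cfsg.Agent.Lead

variable {Ω : Type*} [Group Ω] {S T : Subgroup Ω}

/-- Two endomorphisms of `U ⊔ X` that agree on `U` and on `X` are equal. -/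
theorem cse_uni_ext {U X : Subgroup Ω} {M : Type*} [Monoid M] (f g : ↥(U ⊔ X) →* M)
    (hU : ∀ u : U, f (Subgroup.inclusion le_sup_left u) = g (Subgroup.inclusion le_sup_left u))
    (hX : ∀ x : ↥(U ⊔ X), (x : Ω) ∈ X → f x = g x) : f = g := by
  have hle : U ⊔ X ≤ (MonoidHom.eqLocus f g).map (U ⊔ X).subtype := by
    apply sup_le
    · intro u hu
      exact ⟨Subgroup.inclusion le_sup_left ⟨u, hu⟩, hU ⟨u, hu⟩, rfl⟩
    · intro x hx
      exact ⟨⟨x, (le_sup_right : X ≤ U ⊔ X) hx⟩, hX _ hx, rfl⟩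
  ext y
  obtain ⟨y', hy', hyy'⟩ := hle y.2
  have : y' = y := Subtype.ext hyy'
  rw [← this]
  exact hy'

/-- For a good lift `γ` over `X`, `γ x = x * δ` with `δ ∈ Z(U)`. -/
theorem cse_uni_exists_quot (F : FusionSystem S) {U X : Subgroup Ω} {α : MulAut U}
    {γ : MulAut ↥(U ⊔ X)} (hγ : CseGood F U X α γ) (x : ↥(U ⊔ X)) (hx : (x : Ω) ∈ X) :
    ∃ δ : U, (δ : Ω) ∈ cseZ U ∧ γ x = x * Subgroup.inclusion le_sup_left δ := by
  have hz := hγ.2.2 x hx
  refine ⟨⟨_, cseZ_le U hz⟩, hz, ?_⟩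
  apply Subtype.ext
  show ((γ x : ↥(U ⊔ X)) : Ω) = (x : Ω) * ((x : Ω)⁻¹ * ((γ x : ↥(U ⊔ X)) : Ω))
  rw [mul_inv_cancel_left]

/-- A good lift of the identity has order dividing `|S|`. -/
theorem cse_uni_pow_eq_one [Finite S] (F : FusionSystem S)
    {U X : Subgroup Ω} (hUS : U ≤ S) (γ : MulAut ↥(U ⊔ X)) (hγ : CseGood F U X 1 γ) :
    γ ^ Nat.card S = 1 := by
  have hγU' : ∀ u : U, γ (Subgroup.inclusion le_sup_left u) = Subgroup.inclusion le_sup_left u :=
    fun u => Subtype.ext (hγ.2.1 u)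
  have hpowU : ∀ (k : ℕ) (u : U), (γ ^ k) (Subgroup.inclusion le_sup_left u) =
      Subgroup.inclusion le_sup_left u := by
    intro k u
    induction k with
    | zero => rfl
    | succ k ih => rw [pow_succ, MulAut.mul_apply, hγU', ih]
  have heq : (γ ^ Nat.card S).toMonoidHom = (1 : MulAut ↥(U ⊔ X)).toMonoidHom := by
    apply cse_uni_ext
    · intro u
      exact hpowU _ u
    · intro x hx
      obtain ⟨δ, -, hδ⟩ := cse_uni_exists_quot F hγ x hx
      have hiter : ∀ k : ℕ, (γ ^ k) x = x * Subgroup.inclusion le_sup_left (δ ^ k) := by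
        intro k
        induction k with
        | zero => simp
        | succ k ih =>
          rw [pow_succ, MulAut.mul_apply, hδ, map_mul, ih, hpowU, mul_assoc, ← map_mul, ← pow_succ]
      show (γ ^ Nat.card S) x = x
      rw [hiter]
      have h3 : (⟨(δ : Ω), hUS δ.2⟩ : S) ^ Nat.card S = 1 := pow_card_eq_one'
      have h4 : δ ^ Nat.card S = 1 := by
        apply Subtype.ext
        have := congrArg Subtype.val h3
        rw [Subgroup.coe_pow] at this
        rw [Subgroup.coe_pow]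
        exact this
      rw [h4, map_one, mul_one]
  ext y
  exact congrArg Subtype.val (DFunLike.congr_fun heq y)

theorem cse_unique [Finite S] (p : ℕ) [Fact p.Prime] {F : FusionSystem S} {E : FusionSystem T}
    (h : Setup p F E) {U : Subgroup Ω} (hU : E.IsCentric U) {X : Subgroup Ω}
    (hX : X ≤ centralizerIn S U) (α : MulAut U) (hα : α ∈ E.autGroup U)
    (β₁ β₂ : MulAut ↥(U ⊔ X)) (h₁ : CseGood F U X α β₁) (h₂ : CseGood F U X α β₂)
    (c₁ : (orderOf β₁).Coprime p) (c₂ : (orderOf β₂).Coprime p) : β₁ = β₂ := by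
  have hUS : U ≤ S := hU.1.trans h.le
  have hXS : X ≤ S := hX.trans inf_le_left
  have hPS : U ⊔ X ≤ S := sup_le hUS hXS
  have hfinP : Finite ↥(U ⊔ X) := Fusion.finite_of_le hPS
  have hfinA : Finite (MulAut ↥(U ⊔ X)) := inferInstance
  have hfinU : Finite U := Fusion.finite_of_le hUS
  -- inverse of β₁ as a power
  set n := orderOf β₁ with hn
  have hnpos : 0 < n := orderOf_pos β₁
  have hinv : β₁ ^ (n - 1) = β₁⁻¹ := by
    rw [eq_inv_iff_mul_eq_one, ← pow_succ, Nat.sub_add_cancel hnpos, hn, pow_orderOf_eq_one]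
  -- α ^ n = 1
  have hαn : α ^ n = 1 := by
    have hg := cse_good_pow F h₁ n
    rw [hn, pow_orderOf_eq_one] at hg
    ext u
    have := hg.2.1 u
    rw [← hn] at this
    exact this.symm
  have hαinv : α ^ (n - 1) * α = 1 := by
    rw [← pow_succ, Nat.sub_add_cancel hnpos, hαn]
  -- γ = β₁⁻¹ β₂ is a good lift of 1
  have hγ : CseGood F U X 1 (β₁⁻¹ * β₂) := by
    have := cse_good_mul F (cse_good_pow F h₁ (n - 1)) h₂
    rwa [hαinv, hinv] at this
  set γ := β₁⁻¹ * β₂ with hγdef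
  have hβ₂ : β₂ = β₁ * γ := by rw [hγdef, mul_inv_cancel_left]
  have hγgood : CseGood F U X 1 γ := hγ
  have hγU' : ∀ u : U, γ (Subgroup.inclusion le_sup_left u) = Subgroup.inclusion le_sup_left u :=
    fun u => Subtype.ext (hγgood.2.1 u)
  have hβU := h₁.2.1
  have hβU' : ∀ u : U, β₁ (Subgroup.inclusion le_sup_left u) =
      Subgroup.inclusion le_sup_left (α u) := fun u => Subtype.ext (hβU u)
  -- β₁ and γ commute
  have hcomm : β₁ * γ = γ * β₁ := by
    have heq : (β₁ * γ).toMonoidHom = (γ * β₁).toMonoidHom := by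
      apply cse_uni_ext
      · intro u
        show β₁ (γ (Subgroup.inclusion le_sup_left u)) = γ (β₁ (Subgroup.inclusion le_sup_left u))
        rw [hγU', hβU', hγU']
      · intro x hx
        show β₁ (γ x) = γ (β₁ x)
        obtain ⟨δ, hδZ, hδ⟩ := cse_uni_exists_quot F hγgood x hx
        obtain ⟨ζ, hζZ, hζ⟩ := cse_uni_exists_quot F h₁ x hx
        have hδval : (δ : Ω) = (x : Ω)⁻¹ * ((γ x : ↥(U ⊔ X)) : Ω) := by
          rw [hδ]
          show (δ : Ω) = (x : Ω)⁻¹ * ((x : Ω) * (δ : Ω))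
          rw [inv_mul_cancel_left]
        have hδU : (x : Ω)⁻¹ * ((γ x : ↥(U ⊔ X)) : Ω) ∈ U := hδval ▸ δ.2
        have h3 : α δ = δ := by
          have h4 := cse_comm_fixed p h hU hX γ hγgood α hα x hx hδU
          have h5 : (⟨_, hδU⟩ : U) = δ := Subtype.ext hδval.symm
          rw [h5] at h4
          exact Subtype.ext (h4.trans hδval.symm)
        rw [hδ, map_mul, hβU', h3, hζ, map_mul, hγU', hδ]
        -- x * ζ * δ = x * δ * ζ : δ and ζ are central in U
        rw [mul_assoc, mul_assoc]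
        congr 1
        rw [← map_mul, ← map_mul]
        congr 1
        apply Subtype.ext
        exact ((mem_cseZ.mp hδZ).2 _ ζ.2)
    ext y
    exact congrArg Subtype.val (DFunLike.congr_fun heq y)
  -- γ has p-power order and order prime to p
  have hγp : γ ^ Nat.card S = 1 := cse_uni_pow_eq_one F hUS γ hγgood
  have hγn : γ ^ (n * orderOf β₂) = 1 := by
    have h4 : (β₁ * γ) ^ (n * orderOf β₂) = β₁ ^ (n * orderOf β₂) * γ ^ (n * orderOf β₂) :=
      (show Commute β₁ γ from hcomm).mul_pow _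
    rw [← hβ₂] at h4
    have h5 : β₂ ^ (n * orderOf β₂) = 1 := by rw [pow_mul', pow_orderOf_eq_one, one_pow]
    have h6 : β₁ ^ (n * orderOf β₂) = 1 := by rw [pow_mul, hn, pow_orderOf_eq_one, one_pow]
    rw [h5, h6, one_mul] at h4
    exact h4.symm
  have hcop : (n * orderOf β₂).Coprime (Nat.card S) := by
    obtain ⟨k, hk⟩ := IsPGroup.iff_card.mp h.hS
    rw [hk]
    exact Nat.Coprime.pow_right _ (Nat.Coprime.mul_left c₁ c₂)
  have hγ1 : γ = 1 := by
    have h7 : orderOf γ ∣ n * orderOf β₂ := orderOf_dvd_of_pow_eq_one hγn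
    have h8 : orderOf γ ∣ Nat.card S := orderOf_dvd_of_pow_eq_one hγp
    have h9 : orderOf γ = 1 := Nat.eq_one_of_dvd_coprimes hcop h7 h8
    exact orderOf_eq_one_iff.mp h9
  rw [hβ₂, hγ1, mul_one]

end Cfsg.Agent.CSE
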