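import Mathlib
import Cfsg.Prelude.Def_FusionComponents
import Cfsg.Agent.CSE.Basic
import Cfsg.Agent.CSE.Restrict
import Cfsg.Agent.CSE.Local
import Cfsg.Agent.CSE.Unique
import Cfsg.Agent.NSC.LemmaXb
import Cfsg.Agent.Lead.FusionSubsys

/-!
CSE project (S5127 + S5293), piece P7 (lead): the set `cseY F E` has a largest member, namely the subgroup
`cseC p F E` of the elements of `C_S(T)` fixed by all good `p'`-lifts of `p'`-elements of the groups `Aut_E(U)`,
`U` an `E`-centric subgroup (`notes/S5127_S5293_helper7.md`, part 2).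

(A) every `X` in `cseY F E` lies in `cseC`: by uniqueness of good `p'`-lifts (`cse_unique`), the good lift over `X`
that fixes `X` is the restriction of the given one.
(B) `cseC` is in `cseY F E`: Alperin induction in `E`; `Aut_E(P)` (`P = T` or `E`-essential) is generated by
`Aut_T(P)` and its `p'`-elements, and both kinds extend to `P ⊔ cseC` fixing `cseC`.
-/

set_option autoImplicit false

namespace Cfsg.Agent.CSE

open Cfsg Cfsg.FusionSystem Cfsg.Agent.Lead Cfsg.Agent.NSC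

variable {Ω : Type*} [Group Ω] {S T : Subgroup Ω}

/-- A map of the system from `Q` into `Q` is an automorphism of the system. -/
theorem cse_aut_of_hom [Finite S] (F : FusionSystem S) {Q : Subgroup Ω} (ψ : Q →* Ω)
    (hψ : ψ ∈ F.Hom Q) (hQ : ∀ x : Q, ψ x ∈ Q) :
    ∃ β ∈ F.autGroup Q, ∀ x : Q, ((β x : Q) : Ω) = ψ x := by
  have hQS : Q ≤ S := Fusion.src_le F hψ
  have : Finite Q := Fusion.finite_of_le hQS
  set f' : Q →* Q := ψ.codRestrict Q hQ with hf'
  have hinj : Function.Injective f' := by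
    intro x y hxy
    exact F.injective_of_mem hψ (congrArg Subtype.val hxy)
  have hbij : Function.Bijective f' := ⟨hinj, Finite.injective_iff_surjective.mp hinj⟩
  refine ⟨MulEquiv.ofBijective f' hbij, ?_, fun x => rfl⟩
  rw [Fusion.mem_autGroup_iff F hQS]
  have : Q.subtype.comp (MulEquiv.ofBijective f' hbij : MulAut Q).toMonoidHom = ψ := by
    ext x
    rfl
  rw [this]
  exact hψ

/-- A power of an automorphism fixes what the automorphism fixes. -/
theorem cse_pow_fix {Q : Type*} [Group Q] (β : MulAut Q) (x : Q) (hx : β x = x) (k : ℕ) :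
    (β ^ k) x = x := by
  induction k with
  | zero => simp
  | succ k ih => rw [pow_succ, MulAut.mul_apply, hx, ih]

theorem cse_centralizerIn_anti {U T' : Subgroup Ω} (S : Subgroup Ω) (h : U ≤ T') :
    centralizerIn S T' ≤ centralizerIn S U :=
  inf_le_inf_left S (Subgroup.centralizer_le h)

/-- The elements of `C_S(T)` fixed by all good `p'`-lifts. -/
def cseC (p : ℕ) (F : FusionSystem S) (E : FusionSystem T) : Subgroup Ω where
  carrier := {x | x ∈ centralizerIn S T ∧ CseFixed p F E x}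
  one_mem' := by
    refine ⟨(centralizerIn S T).one_mem, ?_⟩
    intro U _ α _ _ β _ _ y hy
    have : y = 1 := Subtype.ext hy
    rw [this, map_one]
    rfl
  mul_mem' := by
    rintro a b ⟨ha, hfa⟩ ⟨hb, hfb⟩
    refine ⟨(centralizerIn S T).mul_mem ha hb, ?_⟩
    intro U hU α hα hcop β hβ hβcop y hy
    have hle : centralizerIn S T ≤ U ⊔ centralizerIn S U :=
      (cse_centralizerIn_anti S hU.1).trans le_sup_right
    have h1 := hfa U hU α hα hcop β hβ hβcop ⟨a, hle ha⟩ rfl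
    have h2 := hfb U hU α hα hcop β hβ hβcop ⟨b, hle hb⟩ rfl
    have : y = (⟨a, hle ha⟩ : ↥(U ⊔ centralizerIn S U)) * ⟨b, hle hb⟩ := Subtype.ext hy
    rw [this, map_mul, Subgroup.coe_mul, h1, h2]
  inv_mem' := by
    rintro a ⟨ha, hfa⟩
    refine ⟨(centralizerIn S T).inv_mem ha, ?_⟩
    intro U hU α hα hcop β hβ hβcop y hy
    have hle : centralizerIn S T ≤ U ⊔ centralizerIn S U :=
      (cse_centralizerIn_anti S hU.1).trans le_sup_right
    have h1 := hfa U hU α hα hcop β hβ hβcop ⟨a, hle ha⟩ rfl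
    have : y = (⟨a, hle ha⟩ : ↥(U ⊔ centralizerIn S U))⁻¹ := Subtype.ext hy
    rw [this, map_inv, Subgroup.coe_inv, h1]

theorem mem_cseC {p : ℕ} {F : FusionSystem S} {E : FusionSystem T} {x : Ω} :
    x ∈ cseC p F E ↔ x ∈ centralizerIn S T ∧ CseFixed p F E x := Iff.rfl

theorem cseC_le (p : ℕ) (F : FusionSystem S) (E : FusionSystem T) :
    cseC p F E ≤ centralizerIn S T := fun _ hx => hx.1

/-- (A): every member of `cseY F E` lies in `cseC`. -/
theorem cse_le_cseC [Finite S] (p : ℕ) [Fact p.Prime] {F : FusionSystem S} {E : FusionSystem T}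
    (h : Setup p F E) {X : Subgroup Ω} (hX : X ∈ cseY F E) : X ≤ cseC p F E := by
  intro x hxX
  refine ⟨hX.1 hxX, ?_⟩
  intro U hU α hα hcop β hβ hβcop y hy
  have hUT : U ≤ T := hU.1
  have hUS : U ≤ S := hUT.trans h.le
  have hXD : X ≤ centralizerIn S U := hX.1.trans (cse_centralizerIn_anti S hUT)
  have hXS : X ≤ S := hXD.trans inf_le_left
  have hPS : U ⊔ X ≤ S := sup_le hUS hXS
  have : Finite ↥(U ⊔ X) := Fusion.finite_of_le hPS
  have : Finite (MulAut ↥(U ⊔ X)) := inferInstance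
  -- the lift of `α` fixing `X`
  have hαE := (Fusion.mem_autGroup_iff E hUT α).mp hα
  obtain ⟨-, -, -, ψ, hψ, hψU, hψX⟩ := hX.2 U hαE
  have hval : ∀ z : ↥(U ⊔ X), ψ z ∈ U ⊔ X := by
    apply Fusion.sup_map_mem
    · intro u
      rw [hψU u]
      exact (le_sup_left : U ≤ U ⊔ X) (α u).2
    · intro c
      rw [hψX c]
      exact (le_sup_right : X ≤ U ⊔ X) c.2
  obtain ⟨ε, hε, hεψ⟩ := cse_aut_of_hom F ψ hψ hval
  have hεX : ∀ z : ↥(U ⊔ X), (z : Ω) ∈ X → ε z = z := by
    intro z hz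
    apply Subtype.ext
    rw [hεψ z]
    exact hψX ⟨z, hz⟩
  have hεgood : CseGood F U X α ε := by
    refine ⟨hε, fun u => ?_, fun z hz => ?_⟩
    · rw [hεψ]
      exact hψU u
    · rw [hεX z hz, inv_mul_cancel]
      exact (cseZ U).one_mem
  obtain ⟨k, hk, hk1⟩ := exists_pow_coprime p ε (orderOf α) hcop
  have hαk : α ^ k = α := by
    have := (pow_eq_pow_iff_modEq (x := α)).mpr (hk1 : k ≡ 1 [MOD orderOf α])
    rw [this, pow_one]
  have hεk : CseGood F U X α (ε ^ k) := by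
    have := cse_good_pow F hεgood k
    rwa [hαk] at this
  -- the restriction of `β`
  obtain ⟨β', hβ', hβ'β, hord⟩ := cse_good_restrict F hUS le_rfl hXD hβ
  have hβ'cop : (orderOf β').Coprime p := Nat.Coprime.coprime_dvd_left hord hβcop
  have heq : β' = ε ^ k := cse_unique p h hU hXD α hα β' (ε ^ k) hβ' hεk hβ'cop hk
  have hxUX : x ∈ U ⊔ X := (le_sup_right : X ≤ U ⊔ X) hxX
  have h1 := hβ'β ⟨x, hxUX⟩
  have h2 : Subgroup.inclusion (sup_le_sup_left hXD U) (⟨x, hxUX⟩ : ↥(U ⊔ X)) = y :=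
    Subtype.ext hy.symm
  rw [h2] at h1
  rw [← h1, heq, cse_pow_fix ε ⟨x, hxUX⟩ (hεX _ hxX) k]

/-- `T` centralizes `cseC`. -/
theorem cse_le_centralizerIn_cseC (p : ℕ) {F : FusionSystem S} {E : FusionSystem T} (hTS : T ≤ S) :
    T ≤ centralizerIn S (cseC p F E) := by
  intro t ht
  refine Subgroup.mem_inf.mpr ⟨hTS ht, ?_⟩
  rw [Subgroup.mem_centralizer_iff]
  intro c hc
  have h1 := (Subgroup.mem_inf.mp hc.1).2
  rw [Subgroup.mem_centralizer_iff] at h1
  exact (h1 t ht).symm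

/-- The maps with source `P` that extend to `P ⊔ C` fixing `C`. -/
def CseExt (F : FusionSystem S) (C P : Subgroup Ω) (φ : P →* Ω) : Prop :=
  ∃ ψ ∈ F.Hom (P ⊔ C), (∀ x : P, ψ (Subgroup.inclusion le_sup_left x) = φ x) ∧
    ∀ c : C, ψ (Subgroup.inclusion le_sup_right c) = c

theorem cseExt_conj (F : FusionSystem S) {C : Subgroup Ω} (hCS : C ≤ S) (P : Subgroup Ω) (g : Ω)
    (hP : P ≤ S) (hg : g ∈ S) (hgC : ∀ c ∈ C, g * c = c * g) : CseExt F C P (conjHom P g) := by
  refine ⟨conjHom (P ⊔ C) g, F.conj_mem (sup_le hP hCS) hg, fun x => rfl, fun c => ?_⟩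
  show g * (c : Ω) * g⁻¹ = c
  rw [hgC c c.2, mul_inv_cancel_right]

theorem cseExt_comp (F : FusionSystem S) {C : Subgroup Ω} (P Q : Subgroup Ω) (φ : P →* Ω)
    (ψ : Q →* Ω) (h : ∀ x : P, φ x ∈ Q) (hφ : CseExt F C P φ) (hψ : CseExt F C Q ψ) :
    CseExt F C P (ψ.comp (φ.codRestrict Q h)) := by
  obtain ⟨φh, hφh, hφP, hφC⟩ := hφ
  obtain ⟨ψh, hψh, hψQ, hψC⟩ := hψ
  have hval : ∀ y : ↥(P ⊔ C), φh y ∈ Q ⊔ C := by
    apply Fusion.sup_map_mem
    · intro x
      rw [hφP x]
      exact (le_sup_left : Q ≤ Q ⊔ C) (h x)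
    · intro c
      rw [hφC c]
      exact (le_sup_right : C ≤ Q ⊔ C) c.2
  refine ⟨_, F.comp_mem hφh hψh hval, fun x => ?_, fun c => ?_⟩
  · have h3 : (φh.codRestrict (Q ⊔ C) hval) (Subgroup.inclusion le_sup_left x) =
        Subgroup.inclusion le_sup_left (⟨φ x, h x⟩ : Q) := by
      apply Subtype.ext
      exact hφP x
    show ψh ((φh.codRestrict (Q ⊔ C) hval) (Subgroup.inclusion le_sup_left x)) = ψ ⟨φ x, h x⟩
    rw [h3, hψQ]
  · have h3 : (φh.codRestrict (Q ⊔ C) hval) (Subgroup.inclusion le_sup_right c) =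
        Subgroup.inclusion le_sup_right c := by
      apply Subtype.ext
      exact hφC c
    show ψh ((φh.codRestrict (Q ⊔ C) hval) (Subgroup.inclusion le_sup_right c)) = c
    rw [h3, hψC]

theorem cseExt_inv (F : FusionSystem S) {C : Subgroup Ω} (P : Subgroup Ω) (φ : P →* Ω)
    (ψ : φ.range →* Ω) (hφ : CseExt F C P φ) (hinv : ∀ x : P, ψ ⟨φ x, ⟨x, rfl⟩⟩ = (x : Ω)) :
    CseExt F C φ.range ψ := by
  obtain ⟨φh, hφh, hφP, hφC⟩ := hφ
  have hrange : φh.range = φ.range ⊔ C := by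
    apply le_antisymm
    · rintro _ ⟨y, rfl⟩
      revert y
      apply Fusion.sup_map_mem
      · intro x
        rw [hφP x]
        exact (le_sup_left : φ.range ≤ _) ⟨x, rfl⟩
      · intro c
        rw [hφC c]
        exact (le_sup_right : C ≤ φ.range ⊔ C) c.2
    · apply sup_le
      · rintro _ ⟨x, rfl⟩
        exact ⟨_, hφP x⟩
      · intro c hc
        exact ⟨_, hφC ⟨c, hc⟩⟩
  obtain ⟨θ, hθ, hθinv⟩ := F.inv_mem hφh
  obtain ⟨θ', hθ', hθθ'⟩ := Fusion.exists_hom_of_eq F hrange hθ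
  refine ⟨θ', hθ', ?_, ?_⟩
  · rintro ⟨_, x, rfl⟩
    rw [hinv x]
    have hmem : φ x ∈ φh.range := ⟨_, hφP x⟩
    have h2 : θ' (Subgroup.inclusion le_sup_left (⟨φ x, ⟨x, rfl⟩⟩ : φ.range)) = θ ⟨φ x, hmem⟩ :=
      hθθ' (φ x) hmem _
    rw [h2]
    have h3 : (⟨φ x, hmem⟩ : φh.range) =
        ⟨φh (Subgroup.inclusion le_sup_left x), ⟨_, rfl⟩⟩ := Subtype.ext (hφP x).symm
    rw [h3, hθinv]
    rfl
  · intro c
    have hmem : (c : Ω) ∈ φh.range := ⟨_, hφC c⟩
    have h2 : θ' (Subgroup.inclusion le_sup_right c) = θ ⟨(c : Ω), hmem⟩ := hθθ' (c : Ω) hmem _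
    rw [h2]
    have h3 : (⟨(c : Ω), hmem⟩ : φh.range) =
        ⟨φh (Subgroup.inclusion le_sup_right c), ⟨_, rfl⟩⟩ := Subtype.ext (hφC c).symm
    rw [h3, hθinv]
    rfl

/-- The automorphisms of `P` that extend to automorphisms of `P ⊔ C` in the system fixing `C`. -/
def cseK (F : FusionSystem S) (C P : Subgroup Ω) : Subgroup (MulAut P) where
  carrier := {α | ∃ β ∈ F.autGroup (P ⊔ C),
    (∀ x : P, β (Subgroup.inclusion le_sup_left x) = Subgroup.inclusion le_sup_left (α x)) ∧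
    ∀ c : C, β (Subgroup.inclusion le_sup_right c) = Subgroup.inclusion le_sup_right c}
  one_mem' := ⟨1, (F.autGroup _).one_mem, fun _ => rfl, fun _ => rfl⟩
  mul_mem' := by
    rintro a b ⟨β₁, h₁, h₁P, h₁C⟩ ⟨β₂, h₂, h₂P, h₂C⟩
    refine ⟨β₁ * β₂, (F.autGroup _).mul_mem h₁ h₂, fun x => ?_, fun c => ?_⟩
    · rw [MulAut.mul_apply, h₂P, h₁P]
      rfl
    · rw [MulAut.mul_apply, h₂C, h₁C]
  inv_mem' := by
    rintro a ⟨β, hβ, hP, hC⟩
    refine ⟨β⁻¹, (F.autGroup _).inv_mem hβ, fun x => ?_, fun c => ?_⟩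
    · rw [MulAut.inv_apply, MulEquiv.symm_apply_eq, hP]
      congr 1
      exact (MulEquiv.apply_symm_apply a x).symm
    · rw [MulAut.inv_apply, MulEquiv.symm_apply_eq, hC]

/-- The generation lemma for a fully automized `P` (finite `MulAut P` only). -/
theorem cse_autGroup_le_of_gen (p : ℕ) [Fact p.Prime] (E : FusionSystem T) {P : Subgroup Ω}
    [Finite P] (hP : E.IsFullyAutomized p P) (K : Subgroup (MulAut P))
    (hK1 : autInducedBy T P ≤ K) (hK2 : ∀ a ∈ E.autGroup P, (orderOf a).Coprime p → a ∈ K) :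
    E.autGroup P ≤ K := by
  obtain ⟨-, R, hR⟩ := hP
  have : Finite (MulAut P) := inferInstance
  have htop : K.subgroupOf (E.autGroup P) = ⊤ := by
    apply nsc_eq_top_of_sylow_of_coprime p R
    · rw [hR]
      intro x hx
      rw [Subgroup.mem_subgroupOf] at hx ⊢
      exact hK1 hx
    · intro a ha
      rw [Subgroup.mem_subgroupOf]
      apply hK2 _ a.2
      rwa [Subgroup.orderOf_coe]
  intro a ha
  have : (⟨a, ha⟩ : E.autGroup P) ∈ K.subgroupOf (E.autGroup P) := by rw [htop]; trivial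
  exact Subgroup.mem_subgroupOf.mp this

/-- (B): `cseC` is a member of `cseY F E`. -/
theorem cseC_mem [Finite S] (p : ℕ) [Fact p.Prime] {F : FusionSystem S} {E : FusionSystem T}
    (h : Setup p F E) : cseC p F E ∈ cseY F E := by
  set C := cseC p F E with hC
  have hTS : T ≤ S := h.le
  have hCS : C ≤ S := (cseC_le p F E).trans inf_le_left
  have hTC : T ≤ centralizerIn S C := cse_le_centralizerIn_cseC p hTS
  have hcomm : ∀ t ∈ T, ∀ c ∈ C, t * c = c * t := by
    intro t ht c hc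
    have h1 := (Subgroup.mem_inf.mp (hTC ht)).2
    rw [Subgroup.mem_centralizer_iff] at h1
    exact (h1 c hc).symm
  have : Finite T := Fusion.finite_of_le hTS
  have hT : IsPGroup p T := h.hS.to_le hTS
  have hEsat : E.IsSaturated p := h.satE
  refine ⟨cseC_le p F E, fun P φ hφ => ?_⟩
  have hPT : P ≤ T := Fusion.src_le E hφ
  refine ⟨h.sub P hφ, hPT.trans hTC, fun x => hTC (Fusion.map_mem E hφ x), ?_⟩
  -- Alperin induction in `E`
  refine Fusion.pred_of_alperin_ind p hT E hEsat (CseExt F C) ?_ ?_ ?_ ?_ hφ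
  · intro P g hP hg
    exact cseExt_conj F hCS P g (hP.trans hTS) (hTS hg) (fun c hc => hcomm g hg c hc)
  · intro P Q φ ψ hPQ _ _ h1 h2
    exact cseExt_comp F P Q φ ψ hPQ h1 h2
  · intro P φ ψ _ h1 _ hinv
    exact cseExt_inv F P φ ψ h1 hinv
  intro P hP _ α hα
  have hPT : P ≤ T := by
    rcases hP with rfl | hess
    · exact le_rfl
    · exact hess.1.1
  have hPS : P ≤ S := hPT.trans hTS
  have : Finite P := Fusion.finite_of_le hPS
  have hPc : E.IsCentric P := by
    rcases hP with rfl | hess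
    · exact Fusion.top_isCentric E
    · exact hess.1
  have hPa : E.IsFullyAutomized p P := by
    rcases hP with rfl | hess
    · exact Fusion.top_fullyAutomized p E hEsat
    · exact (Fusion.fullyCentralized_fullyAutomized_of_fullyNormalized p hT E hEsat hess.2.1).2
  have hCD : C ≤ centralizerIn S P := (cseC_le p F E).trans (cse_centralizerIn_anti S hPT)
  have hPCS : P ⊔ C ≤ S := sup_le hPS hCS
  have hK : E.autGroup P ≤ cseK F C P := by
    apply cse_autGroup_le_of_gen p E hPa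
    · -- conjugations by elements of `T`
      rw [autInducedBy, Subgroup.closure_le]
      rintro a ⟨g, hg, hga⟩
      have hval : ∀ z : ↥(P ⊔ C), conjHom (P ⊔ C) g z ∈ P ⊔ C := by
        apply Fusion.sup_map_mem
        · intro x
          show g * (x : Ω) * g⁻¹ ∈ P ⊔ C
          rw [← hga x]
          exact (le_sup_left : P ≤ P ⊔ C) (a x).2
        · intro c
          show g * (c : Ω) * g⁻¹ ∈ P ⊔ C
          rw [hcomm g hg c c.2, mul_inv_cancel_right]
          exact (le_sup_right : C ≤ P ⊔ C) c.2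
      obtain ⟨β, hβ, hβg⟩ := cse_aut_of_hom F (conjHom (P ⊔ C) g) (F.conj_mem hPCS (hTS hg)) hval
      refine ⟨β, hβ, fun x => ?_, fun c => ?_⟩
      · apply Subtype.ext
        rw [hβg]
        show g * (x : Ω) * g⁻¹ = ((a x : P) : Ω)
        rw [hga x]
      · apply Subtype.ext
        rw [hβg]
        show g * (c : Ω) * g⁻¹ = c
        rw [hcomm g hg c c.2, mul_inv_cancel_right]
    · -- `p'`-elements
      intro a ha hcop
      obtain ⟨β₀, hβ₀⟩ := cse_local p h hPc a ha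
      obtain ⟨β₁, hβ₁, hβ₁cop⟩ := cse_good_coprime p F hPS le_rfl hcop hβ₀
      obtain ⟨β₂, hβ₂, hβ₂β₁, -⟩ := cse_good_restrict F hPS le_rfl hCD hβ₁
      refine ⟨β₂, hβ₂.1, fun x => ?_, fun c => ?_⟩
      · apply Subtype.ext
        exact hβ₂.2.1 x
      · apply Subtype.ext
        rw [hβ₂β₁]
        exact c.2.2 P hPc a ha hcop β₁ hβ₁ hβ₁cop _ rfl
  obtain ⟨β, hβ, hβP, hβC⟩ := hK hα
  refine ⟨_, (Fusion.mem_autGroup_iff F hPCS β).mp hβ, fun x => ?_, fun c => ?_⟩
  · show ((β (Subgroup.inclusion le_sup_left x) : ↥(P ⊔ C)) : Ω) = ((α x : P) : Ω)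
    rw [hβP]
    rfl
  · show ((β (Subgroup.inclusion le_sup_right c) : ↥(P ⊔ C)) : Ω) = c
    rw [hβC]
    rfl

theorem cse_sSup_eq [Finite S] (p : ℕ) [Fact p.Prime] {F : FusionSystem S} {E : FusionSystem T}
    (h : Setup p F E) : sSup (cseY F E) = cseC p F E :=
  le_antisymm (sSup_le fun _ hX => cse_le_cseC p h hX) (le_sSup (cseC_mem p h))

theorem cse_sSup_mem [Finite S] (p : ℕ) [Fact p.Prime] {F : FusionSystem S} {E : FusionSystem T}
    (h : Setup p F E) : sSup (cseY F E) ∈ cseY F E := by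
  rw [cse_sSup_eq p h]
  exact cseC_mem p h

theorem cse_mem_sSup_iff [Finite S] (p : ℕ) [Fact p.Prime] {F : FusionSystem S} {E : FusionSystem T}
    (h : Setup p F E) (x : Ω) :
    x ∈ sSup (cseY F E) ↔ x ∈ centralizerIn S T ∧ CseFixed p F E x := by
  rw [cse_sSup_eq p h]
  exact mem_cseC

end Cfsg.Agent.CSE
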