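import Mathlib

set_option autoImplicit false

/-!
# CSE project: pure group theory for step 5 of Theorem L

`cse_chain_coprime` (step 5h): a `p'`-automorphism `b` which moves the elements of `D` by elements of
`K Z` and those of `K` by elements of `Z` (`Z` central in `D`, `b`-invariant; the elements of `K` of
`p`-power order) moves the elements of `D` by elements of `Z`.
-/

namespace Cfsg.Agent.CSE

/-- Coprime action on a chain, elementwise form. -/
theorem cse_chain_coprime {G : Type*} [Group G] (p : ℕ) (b : MulAut G)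
    (hcop : (orderOf b).Coprime p) (Z K D : Subgroup G) (hKD : K ≤ D)
    (hcomm : ∀ z ∈ Z, ∀ d ∈ D, Commute z d)
    (hbZ : ∀ z ∈ Z, b z ∈ Z)
    (hbK : ∀ x ∈ K, x⁻¹ * b x ∈ Z)
    (hKp : ∀ x ∈ K, ∃ j : ℕ, x ^ (p ^ j) = 1)
    (hbD : ∀ d ∈ D, ∃ x ∈ K, ∃ z ∈ Z, b d = d * x * z) :
    ∀ d ∈ D, d⁻¹ * b d ∈ Z := by
  intro d hd
  obtain ⟨x, hxK, z, hzZ, hbd⟩ := hbD d hd
  obtain ⟨j, hj⟩ := hKp x hxK
  have hpowZ : ∀ (n : ℕ), ∀ z ∈ Z, (b ^ n) z ∈ Z := by
    intro n
    induction n with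
    | zero => intro z hz; simpa using hz
    | succ n ih =>
      intro z hz
      rw [pow_succ', MulAut.mul_apply]
      exact hbZ _ (ih z hz)
  have hstep : ∀ n : ℕ, ∃ zn ∈ Z, (b ^ n) d = d * x ^ n * zn := by
    intro n
    induction n with
    | zero => exact ⟨1, Z.one_mem, by simp⟩
    | succ n ih =>
      obtain ⟨zn, hzn, hn⟩ := ih
      set w := x⁻¹ * b x with hw
      have hwZ : w ∈ Z := hbK x hxK
      have hbx : b x = x * w := by rw [hw, mul_inv_cancel_left]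
      have hxw : Commute w x := hcomm w hwZ x (hKD hxK)
      refine ⟨z * w ^ n * b zn, Z.mul_mem (Z.mul_mem hzZ (Z.pow_mem hwZ n)) (hbZ zn hzn), ?_⟩
      rw [pow_succ', MulAut.mul_apply, hn, map_mul, map_mul, map_pow, hbd, hbx, hxw.symm.mul_pow]
      have hzx : Commute z (x ^ n) := hcomm z hzZ _ (D.pow_mem (hKD hxK) n)
      calc d * x * z * (x ^ n * w ^ n) * b zn = d * x * (z * x ^ n) * w ^ n * b zn := by group
        _ = d * x * (x ^ n * z) * w ^ n * b zn := by rw [hzx.eq]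
        _ = d * x ^ (n + 1) * (z * w ^ n * b zn) := by rw [pow_succ']; group
  obtain ⟨zk, hzk, hk⟩ := hstep (p ^ j)
  rw [hj, mul_one] at hk
  have hpow2 : ∀ l : ℕ, ∃ z' ∈ Z, ((b ^ (p ^ j)) ^ l) d = d * z' := by
    intro l
    induction l with
    | zero => exact ⟨1, Z.one_mem, by simp⟩
    | succ l ih =>
      obtain ⟨z', hz', hl⟩ := ih
      refine ⟨zk * (b ^ (p ^ j)) z', Z.mul_mem hzk (hpowZ _ z' hz'), ?_⟩
      rw [pow_succ', MulAut.mul_apply, hl, map_mul, hk, mul_assoc]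
  obtain ⟨m, hm⟩ := exists_pow_eq_self_of_coprime (x := b) (n := p ^ j)
    (Nat.Coprime.pow_left j hcop.symm)
  obtain ⟨z', hz', hl⟩ := hpow2 m
  rw [hm] at hl
  rw [hl, inv_mul_cancel_left]
  exact hz'

end Cfsg.Agent.CSE
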