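import Mathlib
import Cfsg.Prelude.Def_FusionComponents
import Cfsg.Agent.CSE.Basic
import Cfsg.Agent.CSE.Restrict
import Cfsg.Agent.CSE.Local
import Cfsg.Agent.CSE.Unique
import Cfsg.Agent.CSE.Largest
import Cfsg.Agent.Lead.FusionExtT
import Cfsg.Agent.Lead.FusionStrongInvD
import Cfsg.Agent.Lead.FusionCentNormal
import Cfsg.Agent.Lead.FusionNormalCrit

set_option autoImplicit false

/-!
# CSE project, piece P9 (helper8): `C_S(E)` is strongly closed

`cse_map_mem` (F1): the set `Y` of subgroups `X ≤ C_S(T)` with `E ⊆ C_F(X)` is stable under the maps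
of `F` defined on `T X`.  `cse_stronglyClosed`: the largest member `C = sSup Y` of `Y` is strongly
closed in `F` (Alperin induction; Frattini argument in `Aut_F(R)` for an essential `R` not
containing `T`; the `p'`-elements of the relevant normal subgroup are handled by uniqueness of good
`p'`-lifts).
-/

namespace Cfsg.Agent.CSE

open Cfsg Cfsg.FusionSystem Cfsg.Agent.Lead Cfsg.Agent.Lead.StrongInv
open scoped Pointwise

variable {Ω : Type*} [Group Ω] {S T : Subgroup Ω}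

/-- Subgroups of members of `Y` are members of `Y`. -/
theorem cse_closed_mem_of_le (F : FusionSystem S) (E : FusionSystem T) {X X' : Subgroup Ω}
    (hX : X ∈ cseY F E) (hle : X' ≤ X) : X' ∈ cseY F E := by
  obtain ⟨hXC, hXE⟩ := hX
  refine ⟨hle.trans hXC, fun P η hη => ?_⟩
  obtain ⟨hηF, hPC, hηC, ψ, hψ, hψext, hψfix⟩ := hXE P hη
  have hcen : centralizerIn S X ≤ centralizerIn S X' := by
    intro g hg
    obtain ⟨hgS, hgC⟩ := Subgroup.mem_inf.mp hg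
    refine Subgroup.mem_inf.mpr ⟨hgS, ?_⟩
    rw [Subgroup.mem_centralizer_iff] at hgC ⊢
    exact fun y hy => hgC y (hle hy)
  have hsup : P ⊔ X' ≤ P ⊔ X := sup_le_sup_left hle P
  refine ⟨hηF, hPC.trans hcen, fun x => hcen (hηC x), ψ.comp (Subgroup.inclusion hsup),
    Fusion.restrict_mem F hψ hsup, fun x => ?_, fun x => ?_⟩
  · exact hψext x
  · exact hψfix ⟨x.1, hle x.2⟩

/-- **F1.** -/
theorem cse_map_mem [Finite S] (p : ℕ) [Fact p.Prime] {F : FusionSystem S} {E : FusionSystem T}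
    (h : Setup p F E) {X : Subgroup Ω} (hX : X ∈ cseY F E) (φ : ↥(T ⊔ X) →* Ω)
    (hφ : φ ∈ F.Hom (T ⊔ X)) :
    (X.subgroupOf (T ⊔ X)).map φ ∈ cseY F E := by
  have hTS := h.le
  have hsc := h.sc
  have hSI := SI_of_invariant F E h.inv
  obtain ⟨hXC, hXE⟩ := hX
  have hTX : T ≤ T ⊔ X := le_sup_left
  have hXX : X ≤ T ⊔ X := le_sup_right
  have hφT := Fusion.restrict_mem F hφ hTX
  obtain ⟨γ, hγ, hγ1, hγ2⟩ := exists_top_inv F hsc hφT
  have hφTmem : ∀ t : T, φ ⟨(t : Ω), hTX t.2⟩ ∈ T := fun t => map_top_mem F hsc hφT t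
  have hγmem : ∀ t : T, γ t ∈ T := fun t => map_top_mem F hsc hγ t
  have hφγ : ∀ t : T, φ ⟨γ t, hTX (hγmem t)⟩ = (t : Ω) := fun t => hγ2 t (hγmem t)
  obtain ⟨X', hX'⟩ : ∃ X' : Subgroup Ω, X' = (X.subgroupOf (T ⊔ X)).map φ := ⟨_, rfl⟩
  rw [← hX']
  have hmemX' : ∀ y, y ∈ X' ↔ ∃ (w : Ω) (hw : w ∈ X), φ ⟨w, hXX hw⟩ = y := by
    intro y
    rw [hX']
    constructor
    · rintro ⟨w, hw, rfl⟩
      exact ⟨w.1, hw, rfl⟩
    · rintro ⟨w, hw, rfl⟩
      exact ⟨⟨w, hXX hw⟩, hw, rfl⟩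
  -- `X'` centralizes `T`
  have hcomm : ∀ y ∈ X', ∀ t ∈ T, t * y = y * t := by
    intro y hy t ht
    obtain ⟨w, hw, rfl⟩ := (hmemX' y).mp hy
    have h1 := hφγ ⟨t, ht⟩
    have h2 : γ ⟨t, ht⟩ * w = w * γ ⟨t, ht⟩ := by
      have := (Subgroup.mem_inf.mp (hXC hw)).2
      rw [Subgroup.mem_centralizer_iff] at this
      exact this _ (hγmem ⟨t, ht⟩)
    have h3 : (⟨γ ⟨t, ht⟩, hTX (hγmem ⟨t, ht⟩)⟩ : ↥(T ⊔ X)) * ⟨w, hXX hw⟩ =
        ⟨w, hXX hw⟩ * ⟨γ ⟨t, ht⟩, hTX (hγmem ⟨t, ht⟩)⟩ := Subtype.ext h2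
    have h4 := congrArg φ h3
    rw [map_mul, map_mul, h1] at h4
    exact h4
  have hX'C : X' ≤ centralizerIn S T := by
    intro y hy
    obtain ⟨w, hw, hwy⟩ := (hmemX' y).mp hy
    refine Subgroup.mem_inf.mpr ⟨hwy ▸ (F.le_of_mem hφ).2 _, ?_⟩
    rw [Subgroup.mem_centralizer_iff]
    exact fun t ht => hcomm y hy t ht
  have hTcen : T ≤ centralizerIn S X' := by
    intro t ht
    refine Subgroup.mem_inf.mpr ⟨hTS ht, ?_⟩
    rw [Subgroup.mem_centralizer_iff]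
    exact fun y hy => (hcomm y hy t ht).symm
  refine ⟨hX'C, fun P η hη => ?_⟩
  have hPT : P ≤ T := (E.le_of_mem hη).1
  have hηT : ∀ x : P, η x ∈ T := (E.le_of_mem hη).2
  -- the conjugate of `η` by `γ`
  obtain ⟨P', hP'⟩ : ∃ P' : Subgroup Ω, P' = (P.subgroupOf T).map γ := ⟨_, rfl⟩
  have hmemP' : ∀ z, z ∈ P' ↔ ∃ (r : Ω) (hr : r ∈ P), γ ⟨r, hPT hr⟩ = z := by
    intro z
    rw [hP']
    constructor
    · rintro ⟨t, ht, rfl⟩
      exact ⟨t.1, ht, rfl⟩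
    · rintro ⟨r, hr, rfl⟩
      exact ⟨⟨r, hPT hr⟩, hr, rfl⟩
  have hP'T : P' ≤ T := by
    intro z hz
    obtain ⟨r, hr, rfl⟩ := (hmemP' z).mp hz
    exact hγmem _
  obtain ⟨χ, hχ, hχv⟩ := conj_of_SI F E hSI hPT hη hγ P' hmemP'
  obtain ⟨hχF, hP'C, hχC, ψ, hψ, hψext, hψfix⟩ := hXE P' hχ
  have hγP' : ∀ x : P, γ ⟨(x : Ω), hPT x.2⟩ ∈ P' := fun x => (hmemP' _).mpr ⟨x.1, x.2, rfl⟩
  -- `φ` restricted to `P' ⊔ X` and its inverse
  have hle1 : P' ⊔ X ≤ T ⊔ X := sup_le_sup_right hP'T X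
  have hφ₁ := Fusion.restrict_mem F hφ hle1
  obtain ⟨ρ, hρ, hρinv, hρr⟩ := Fusion.exists_inv F hφ₁ rfl
  have hle2 : P ⊔ X' ≤ (φ.comp (Subgroup.inclusion hle1)).range := by
    apply sup_le
    · intro x hx
      refine ⟨⟨γ ⟨x, hPT hx⟩, (le_sup_left : P' ≤ P' ⊔ X) (hγP' ⟨x, hx⟩)⟩, ?_⟩
      exact hφγ ⟨x, hPT hx⟩
    · intro y hy
      obtain ⟨w, hw, rfl⟩ := (hmemX' y).mp hy
      exact ⟨⟨w, (le_sup_right : X ≤ P' ⊔ X) hw⟩, rfl⟩
  have hρ' := Fusion.restrict_mem F hρ hle2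
  have hρmem : ∀ z : ↥(P ⊔ X'), (ρ.comp (Subgroup.inclusion hle2)) z ∈ P' ⊔ X := by
    intro z
    have hz : (ρ.comp (Subgroup.inclusion hle2)) z ∈ ρ.range := ⟨_, rfl⟩
    rwa [hρr] at hz
  have h1 := F.comp_mem hρ' hψ hρmem
  -- `ψ` maps `P' ⊔ X` into `T ⊔ X`
  have hψmem : ∀ w : ↥(P' ⊔ X), ψ w ∈ T ⊔ X := by
    have htop : (P'.subgroupOf (P' ⊔ X)) ⊔ (X.subgroupOf (P' ⊔ X)) = ⊤ :=
      (Subgroup.codisjoint_subgroupOf_sup P' X).eq_top
    have hle : (P'.subgroupOf (P' ⊔ X)) ⊔ (X.subgroupOf (P' ⊔ X)) ≤ (T ⊔ X).comap ψ := by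
      apply sup_le
      · intro w hw
        rw [Subgroup.mem_subgroupOf] at hw
        rw [Subgroup.mem_comap]
        have : ψ w = χ ⟨w.1, hw⟩ := hψext ⟨w.1, hw⟩
        rw [this]
        exact hTX ((E.le_of_mem hχ).2 _)
      · intro w hw
        rw [Subgroup.mem_subgroupOf] at hw
        rw [Subgroup.mem_comap]
        have : ψ w = w.1 := hψfix ⟨w.1, hw⟩
        rw [this]
        exact hXX hw
    intro w
    have : w ∈ (⊤ : Subgroup ↥(P' ⊔ X)) := Subgroup.mem_top w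
    rw [← htop] at this
    exact hle this
  have hmem2 : ∀ z : ↥(P ⊔ X'),
      (ψ.comp ((ρ.comp (Subgroup.inclusion hle2)).codRestrict (P' ⊔ X) hρmem)) z ∈ T ⊔ X :=
    fun z => hψmem _
  have h2 := F.comp_mem h1 hφ hmem2
  refine ⟨h.sub P hη, hPT.trans hTcen, fun x => hTcen (hηT x), _, h2, fun x => ?_, fun y => ?_⟩
  · -- extends `η`
    have hx' : (x : Ω) ∈ (φ.comp (Subgroup.inclusion hle1)).range := hle2 (le_sup_left (a := P) x.2)
    have e1 : ρ ⟨(x : Ω), hx'⟩ = γ ⟨(x : Ω), hPT x.2⟩ := by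
      have h3 : ρ ⟨_, _⟩ = γ ⟨(x : Ω), hPT x.2⟩ :=
        hρinv ⟨γ ⟨(x : Ω), hPT x.2⟩, (le_sup_left : P' ≤ P' ⊔ X) (hγP' x)⟩ ⟨_, rfl⟩
      exact (app_congr ρ hx' ⟨_, rfl⟩ (hφγ ⟨(x : Ω), hPT x.2⟩).symm).trans h3
    have e2 : ψ ⟨γ ⟨(x : Ω), hPT x.2⟩, (le_sup_left : P' ≤ P' ⊔ X) (hγP' x)⟩ =
        γ ⟨η x, hηT x⟩ := by
      have h4 : ψ ⟨γ ⟨(x : Ω), hPT x.2⟩, (le_sup_left : P' ≤ P' ⊔ X) (hγP' x)⟩ =
          χ ⟨γ ⟨(x : Ω), hPT x.2⟩, hγP' x⟩ := hψext ⟨_, hγP' x⟩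
      rw [h4]
      exact hχv x.1 x.2 (hγP' x)
    have e3 : φ ⟨γ ⟨η x, hηT x⟩, hTX (hγmem _)⟩ = η x := hφγ ⟨η x, hηT x⟩
    show φ ⟨ψ ⟨ρ ⟨(x : Ω), _⟩, _⟩, _⟩ = η x
    refine Eq.trans ?_ e3
    apply app_congr φ
    refine Eq.trans ?_ e2
    apply app_congr ψ
    exact e1
  · -- fixes `X'`
    obtain ⟨w, hw, hwy⟩ := (hmemX' y.1).mp y.2
    have hy' : (y : Ω) ∈ (φ.comp (Subgroup.inclusion hle1)).range := hle2 (le_sup_right (a := P) y.2)
    have e1 : ρ ⟨(y : Ω), hy'⟩ = w := by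
      have h3 : ρ ⟨_, _⟩ = w := hρinv ⟨w, (le_sup_right : X ≤ P' ⊔ X) hw⟩ ⟨_, rfl⟩
      exact (app_congr ρ hy' ⟨_, rfl⟩ hwy.symm).trans h3
    have e2 : ψ ⟨w, (le_sup_right : X ≤ P' ⊔ X) hw⟩ = w := hψfix ⟨w, hw⟩
    show φ ⟨ψ ⟨ρ ⟨(y : Ω), _⟩, _⟩, _⟩ = (y : Ω)
    refine Eq.trans ?_ hwy
    apply app_congr φ
    refine Eq.trans ?_ e2
    apply app_congr ψ
    exact e1

/-! ### Strong closure of `C = sSup Y` -/

/-- Maps defined on a subgroup containing `T` send `C` into `C`. -/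
theorem cse_closed_big [Finite S] (p : ℕ) [Fact p.Prime] {F : FusionSystem S} {E : FusionSystem T}
    (h : Setup p F E) {P : Subgroup Ω} (hTP : T ≤ P) {φ : P →* Ω} (hφ : φ ∈ F.Hom P) (x : P)
    (hx : (x : Ω) ∈ sSup (cseY F E)) : φ x ∈ sSup (cseY F E) := by
  have hCY := cse_sSup_mem p h
  have hX : P ⊓ sSup (cseY F E) ∈ cseY F E := cse_closed_mem_of_le F E hCY inf_le_right
  have hle : T ⊔ (P ⊓ sSup (cseY F E)) ≤ P := sup_le hTP inf_le_left
  have hφ' := Fusion.restrict_mem F hφ hle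
  have hm := cse_map_mem p h hX _ hφ'
  have hle2 := le_sSup hm
  apply hle2
  refine ⟨⟨x.1, (le_sup_right : P ⊓ sSup (cseY F E) ≤ T ⊔ (P ⊓ sSup (cseY F E)))
    (Subgroup.mem_inf.mpr ⟨x.2, hx⟩)⟩, ?_, rfl⟩
  rw [SetLike.mem_coe, Subgroup.mem_subgroupOf]
  exact Subgroup.mem_inf.mpr ⟨x.2, hx⟩

/-- Maps defined on a subgroup containing `T` preserve membership in `C` in both directions. -/
theorem cse_closed_big_iff [Finite S] (p : ℕ) [Fact p.Prime] {F : FusionSystem S}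
    {E : FusionSystem T} (h : Setup p F E) {P : Subgroup Ω} (hTP : T ≤ P) {φ : P →* Ω}
    (hφ : φ ∈ F.Hom P) (x : P) :
    (x : Ω) ∈ sSup (cseY F E) ↔ φ x ∈ sSup (cseY F E) := by
  refine ⟨cse_closed_big p h hTP hφ x, fun hx => ?_⟩
  obtain ⟨ρ, hρ, hρinv⟩ := F.inv_mem hφ
  have hTr : T ≤ φ.range := by
    intro t ht
    obtain ⟨t', ht', hte⟩ := Fusion.exists_preimage_of_stronglyClosed F h.sc hTP hφ t ht
    exact ⟨_, hte⟩
  have := cse_closed_big p h hTr hρ ⟨φ x, ⟨x, rfl⟩⟩ hx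
  rwa [hρinv x] at this

/-- `C` is normalized by `S`. -/
theorem cse_closed_conj_iff [Finite S] (p : ℕ) [Fact p.Prime] {F : FusionSystem S}
    {E : FusionSystem T} (h : Setup p F E) {g : Ω} (hg : g ∈ S) {x : Ω} (hx : x ∈ S) :
    x ∈ sSup (cseY F E) ↔ g * x * g⁻¹ ∈ sSup (cseY F E) :=
  cse_closed_big_iff p h h.le (F.conj_mem (le_refl S) hg) ⟨x, hx⟩

/-- The automorphisms of `R` preserving membership in `C`. -/
def cseClosedPr (C R : Subgroup Ω) : Subgroup (MulAut R) where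
  carrier := {β | ∀ x : R, (x : Ω) ∈ C ↔ ((β x : R) : Ω) ∈ C}
  one_mem' := fun _ => Iff.rfl
  mul_mem' := by
    intro a b ha hb x
    rw [MulAut.mul_apply]
    exact (hb x).trans (ha (b x))
  inv_mem' := by
    intro a ha x
    have := ha (a⁻¹ x)
    rw [MulAut.apply_inv_self] at this
    exact this.symm

/-- The normal subgroup of `Aut_F(R)` used in the Frattini argument: the automorphisms acting
trivially on `R / (R ∩ T)` and restricting to an element of `Aut_E(R ∩ T)`. -/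
def cseClosedK (F : FusionSystem S) (E : FusionSystem T) (R : Subgroup Ω) : Subgroup (MulAut R) where
  carrier := {κ | κ ∈ F.autGroup R ∧ (∀ x : R, (x : Ω)⁻¹ * ((κ x : R) : Ω) ∈ T) ∧
    ∃ a ∈ E.autGroup (R ⊓ T), ∀ u : ↥(R ⊓ T),
      ((a u : ↥(R ⊓ T)) : Ω) = ((κ (Subgroup.inclusion inf_le_left u) : R) : Ω)}
  one_mem' := ⟨Subgroup.one_mem _, fun x => by simp, 1, Subgroup.one_mem _, fun _ => rfl⟩
  mul_mem' := by
    rintro κ₁ κ₂ ⟨h1, h2, a₁, ha₁, hv₁⟩ ⟨h1', h2', a₂, ha₂, hv₂⟩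
    refine ⟨Subgroup.mul_mem _ h1 h1', fun x => ?_, a₁ * a₂, Subgroup.mul_mem _ ha₁ ha₂,
      fun u => ?_⟩
    · have e : (x : Ω)⁻¹ * (((κ₁ * κ₂) x : R) : Ω) =
          ((x : Ω)⁻¹ * ((κ₂ x : R) : Ω)) * (((κ₂ x : R) : Ω)⁻¹ * ((κ₁ (κ₂ x) : R) : Ω)) := by
        rw [MulAut.mul_apply]
        group
      rw [e]
      exact T.mul_mem (h2' x) (h2 (κ₂ x))
    · rw [MulAut.mul_apply, MulAut.mul_apply, hv₁]
      have e : Subgroup.inclusion inf_le_left (a₂ u) =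
          κ₂ (Subgroup.inclusion (inf_le_left : R ⊓ T ≤ R) u) := Subtype.ext (hv₂ u)
      rw [e]
  inv_mem' := by
    rintro κ ⟨h1, h2, a, ha, hv⟩
    refine ⟨Subgroup.inv_mem _ h1, fun x => ?_, a⁻¹, Subgroup.inv_mem _ ha, fun u => ?_⟩
    · have h3 := h2 (κ⁻¹ x)
      rw [MulAut.apply_inv_self] at h3
      have h4 := T.inv_mem h3
      rw [mul_inv_rev, inv_inv] at h4
      exact h4
    · have h3 := hv (a⁻¹ u)
      rw [MulAut.apply_inv_self] at h3
      have e : κ (Subgroup.inclusion (inf_le_left : R ⊓ T ≤ R) (a⁻¹ u)) =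
          Subgroup.inclusion inf_le_left u := Subtype.ext h3.symm
      have e2 : Subgroup.inclusion (inf_le_left : R ⊓ T ≤ R) (a⁻¹ u) =
          κ⁻¹ (Subgroup.inclusion inf_le_left u) := by
        rw [← e, MulAut.inv_apply_self]
      exact congrArg Subtype.val e2

theorem mem_cseClosedK (F : FusionSystem S) (E : FusionSystem T) (R : Subgroup Ω) (κ : MulAut R) :
    κ ∈ cseClosedK F E R ↔ κ ∈ F.autGroup R ∧ (∀ x : R, (x : Ω)⁻¹ * ((κ x : R) : Ω) ∈ T) ∧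
    ∃ a ∈ E.autGroup (R ⊓ T), ∀ u : ↥(R ⊓ T),
      ((a u : ↥(R ⊓ T)) : Ω) = ((κ (Subgroup.inclusion inf_le_left u) : R) : Ω) := Iff.rfl

/-- Elements of `Aut_F(R)` restrict to elements of `Aut_F(R ∩ T)`. -/
theorem cse_closed_res (F : FusionSystem S) {R : Subgroup Ω} (hRS : R ≤ S)
    (hT : F.StronglyClosed T) (β : MulAut R) (hβ : β ∈ F.autGroup R) :
    ∃ b ∈ F.autGroup (R ⊓ T), ∀ u : ↥(R ⊓ T),
      ((b u : ↥(R ⊓ T)) : Ω) = ((β (Subgroup.inclusion inf_le_left u) : R) : Ω) := by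
  have hst : ∀ x : R, (x : Ω) ∈ R ⊓ T ↔ ((β x : R) : Ω) ∈ R ⊓ T := by
    intro x
    constructor
    · intro hx
      exact Subgroup.mem_inf.mpr ⟨(β x).2,
        Fusion.aut_mem_of_stronglyClosed F hRS hT β hβ x (Subgroup.mem_inf.mp hx).2⟩
    · intro hx
      have := Fusion.aut_mem_of_stronglyClosed F hRS hT β⁻¹ (Subgroup.inv_mem _ hβ) (β x)
        (Subgroup.mem_inf.mp hx).2
      rw [MulAut.inv_apply_self] at this
      exact Subgroup.mem_inf.mpr ⟨x.2, this⟩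
  refine ⟨Fusion.resAut inf_le_left β hst, ?_, fun u => rfl⟩
  rw [Fusion.mem_autGroup_iff F (inf_le_left.trans hRS)]
  have h1 := Fusion.restrict_mem F ((Fusion.mem_autGroup_iff F hRS β).mp hβ)
    (inf_le_left : R ⊓ T ≤ R)
  convert h1 using 1
  ext x
  rfl

/-- `Aut_F(R)` normalizes `cseClosedK`. -/
theorem cseClosedK_conj [Finite S] (F : FusionSystem S) (E : FusionSystem T)
    (hinv : E.IsInvariantIn F) {R : Subgroup Ω} (hRS : R ≤ S) (β κ : MulAut R)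
    (hβ : β ∈ F.autGroup R) (hκ : κ ∈ cseClosedK F E R) : β * κ * β⁻¹ ∈ cseClosedK F E R := by
  have hT := hinv.2.1
  have hTS := hT.1
  have hSI := SI_of_invariant F E hinv
  obtain ⟨h1, h2, a, ha, hv⟩ := hκ
  obtain ⟨b, hb, hbv⟩ := cse_closed_res F hRS hT β hβ
  refine ⟨Subgroup.mul_mem _ (Subgroup.mul_mem _ hβ h1) (Subgroup.inv_mem _ hβ), fun x => ?_,
    b * a * b⁻¹, conj_mem_autGroup F E hSI hTS inf_le_right b a hb ha, fun u => ?_⟩
  · have h3 := h2 (β⁻¹ x)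
    have h4 := Fusion.aut_mem_of_stronglyClosed F hRS hT β hβ ((β⁻¹ x)⁻¹ * κ (β⁻¹ x)) h3
    rw [map_mul, map_inv, MulAut.apply_inv_self] at h4
    exact h4
  · have e1 : β (Subgroup.inclusion (inf_le_left : R ⊓ T ≤ R) (b⁻¹ u)) =
        Subgroup.inclusion inf_le_left u := by
      apply Subtype.ext
      rw [← hbv, MulAut.apply_inv_self]
      rfl
    have e2 : Subgroup.inclusion (inf_le_left : R ⊓ T ≤ R) (b⁻¹ u) =
        β⁻¹ (Subgroup.inclusion inf_le_left u) := by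
      rw [← e1, MulAut.inv_apply_self]
    have e3 : Subgroup.inclusion (inf_le_left : R ⊓ T ≤ R) (a (b⁻¹ u)) =
        κ (β⁻¹ (Subgroup.inclusion inf_le_left u)) := by
      rw [← e2]
      exact Subtype.ext (hv (b⁻¹ u))
    rw [MulAut.mul_apply, MulAut.mul_apply, hbv, e3]
    rfl

/-- Powers of a restriction. -/
theorem cse_closed_pow_res {R V : Subgroup Ω} (hVR : V ≤ R) (ψ : MulAut R) (b : MulAut V)
    (hb : ∀ v : V, ((b v : V) : Ω) = ((ψ (Subgroup.inclusion hVR v) : R) : Ω)) (n : ℕ) (v : V) :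
    (((b ^ n) v : V) : Ω) = (((ψ ^ n) (Subgroup.inclusion hVR v) : R) : Ω) := by
  induction n generalizing v with
  | zero => simp
  | succ n ih =>
    rw [pow_succ', pow_succ', MulAut.mul_apply, MulAut.mul_apply, hb]
    have e : Subgroup.inclusion hVR ((b ^ n) v) = (ψ ^ n) (Subgroup.inclusion hVR v) :=
      Subtype.ext (ih v)
    rw [e]

theorem cse_closed_orderOf_dvd {R V : Subgroup Ω} (hVR : V ≤ R) (ψ : MulAut R) (b : MulAut V)
    (hb : ∀ v : V, ((b v : V) : Ω) = ((ψ (Subgroup.inclusion hVR v) : R) : Ω)) :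
    orderOf b ∣ orderOf ψ := by
  apply orderOf_dvd_of_pow_eq_one
  ext v
  rw [cse_closed_pow_res hVR ψ b hb, pow_orderOf_eq_one]
  rfl

/-- A `p'`-element of `cseClosedK` fixes `R ∩ C` pointwise. -/
theorem cse_closed_fix [Finite S] (p : ℕ) [Fact p.Prime] {F : FusionSystem S} {E : FusionSystem T}
    (h : Setup p F E) {R : Subgroup Ω} (hRS : R ≤ S) (hUc : E.IsCentric (R ⊓ T))
    (ψ : MulAut R) (hψ : ψ ∈ cseClosedK F E R) (hcop : (orderOf ψ).Coprime p)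
    (x : R) (hx : (x : Ω) ∈ sSup (cseY F E)) : ((ψ x : R) : Ω) = x := by
  obtain ⟨C, hC⟩ : ∃ C, C = sSup (cseY F E) := ⟨_, rfl⟩
  have hCY : C ∈ cseY F E := hC ▸ cse_sSup_mem p h
  have hT := h.sc
  have hTS := h.le
  obtain ⟨U, hUdef⟩ : ∃ U, U = R ⊓ T := ⟨_, rfl⟩
  have hUR : U ≤ R := hUdef ▸ inf_le_left
  have hUT : U ≤ T := hUdef ▸ inf_le_right
  have hUS : U ≤ S := hUR.trans hRS
  obtain ⟨X, hXdef⟩ : ∃ X, X = R ⊓ C := ⟨_, rfl⟩
  have hXR : X ≤ R := hXdef ▸ inf_le_left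
  have hXC : X ≤ C := hXdef ▸ inf_le_right
  have hXD : X ≤ centralizerIn S U := by
    intro y hy
    obtain ⟨hyS, hyc⟩ := Subgroup.mem_inf.mp (hCY.1 (hXC hy))
    refine Subgroup.mem_inf.mpr ⟨hyS, ?_⟩
    rw [Subgroup.mem_centralizer_iff] at hyc ⊢
    exact fun u hu => hyc u (hUT hu)
  have hmemU : ∀ z : Ω, z ∈ R → z ∈ T → z ∈ U := fun z h1 h2 => hUdef ▸ Subgroup.mem_inf.mpr ⟨h1, h2⟩
  -- elements of `K` map `U ⊔ X` into itself
  have hmaps : ∀ κ ∈ cseClosedK F E R, ∀ y : R, (y : Ω) ∈ U ⊔ X → ((κ y : R) : Ω) ∈ U ⊔ X := by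
    intro κ hκ
    obtain ⟨hκA, hκT, -⟩ := hκ
    have hle : U.subgroupOf R ⊔ X.subgroupOf R ≤ ((U ⊔ X).subgroupOf R).comap κ.toMonoidHom := by
      apply sup_le
      · intro y hy
        rw [Subgroup.mem_subgroupOf] at hy
        rw [Subgroup.mem_comap, Subgroup.mem_subgroupOf]
        apply (le_sup_left : U ≤ U ⊔ X)
        exact hmemU _ (κ y).2 (Fusion.aut_mem_of_stronglyClosed F hRS hT κ hκA y (hUT hy))
      · intro y hy
        rw [Subgroup.mem_subgroupOf] at hy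
        rw [Subgroup.mem_comap, Subgroup.mem_subgroupOf]
        have e : ((κ y : R) : Ω) = (y : Ω) * ((y : Ω)⁻¹ * ((κ y : R) : Ω)) := by group
        show ((κ y : R) : Ω) ∈ U ⊔ X
        rw [e]
        apply Subgroup.mul_mem
        · exact (le_sup_right : X ≤ U ⊔ X) hy
        · apply (le_sup_left : U ≤ U ⊔ X)
          exact hmemU _ (R.mul_mem (R.inv_mem y.2) (κ y).2) (hκT y)
    intro y hy
    have hy' : y ∈ U.subgroupOf R ⊔ X.subgroupOf R := by
      rw [← Subgroup.subgroupOf_sup hUR hXR]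
      exact Subgroup.mem_subgroupOf.mpr hy
    have := hle hy'
    rwa [Subgroup.mem_comap, Subgroup.mem_subgroupOf] at this
  have hst : ∀ y : R, (y : Ω) ∈ U ⊔ X ↔ ((ψ y : R) : Ω) ∈ U ⊔ X := by
    intro y
    refine ⟨hmaps ψ hψ y, fun hy => ?_⟩
    have := hmaps ψ⁻¹ (Subgroup.inv_mem _ hψ) (ψ y) hy
    rwa [MulAut.inv_apply_self] at this
  have hle' : U ⊔ X ≤ R := sup_le hUR hXR
  obtain ⟨β₁, hβ₁def⟩ : ∃ β₁, β₁ = Fusion.resAut hle' ψ hst := ⟨_, rfl⟩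
  have hβ₁v : ∀ y : ↥(U ⊔ X), ((β₁ y : ↥(U ⊔ X)) : Ω) = ((ψ (Subgroup.inclusion hle' y) : R) : Ω) :=
    fun y => by rw [hβ₁def]; rfl
  have hψ' := hψ
  obtain ⟨hψA, hψT, a₀, ha₀, hav₀⟩ := hψ'
  -- transport `a₀` to `U`
  subst hUdef
  obtain ⟨a, ha, hav⟩ : ∃ a ∈ E.autGroup (R ⊓ T), ∀ u : ↥(R ⊓ T),
      ((a u : ↥(R ⊓ T)) : Ω) = ((ψ (Subgroup.inclusion hUR u) : R) : Ω) := ⟨a₀, ha₀, hav₀⟩
  have h₁ : CseGood F (R ⊓ T) X a β₁ := by
    refine ⟨?_, fun u => ?_, fun y hy => ?_⟩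
    · rw [Fusion.mem_autGroup_iff F (hle'.trans hRS)]
      have h1 := Fusion.restrict_mem F ((Fusion.mem_autGroup_iff F hRS ψ).mp hψA) hle'
      convert h1 using 1
      ext y
      exact hβ₁v y
    · rw [hβ₁v, hav u]
      rfl
    · rw [hβ₁v, mem_cseZ]
      obtain ⟨y', hy'⟩ : ∃ y' : R, y' = Subgroup.inclusion hle' y := ⟨_, rfl⟩
      rw [← hy']
      have hyy : (y : Ω) = (y' : Ω) := by rw [hy']; rfl
      rw [hyy] at hy ⊢
      refine ⟨hmemU _ (R.mul_mem (R.inv_mem y'.2) (ψ y').2) (hψT y'), fun u hu => ?_⟩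
      have hc1 : u * (y' : Ω) = (y' : Ω) * u := by
        have := (Subgroup.mem_inf.mp (hXD hy)).2
        rw [Subgroup.mem_centralizer_iff] at this
        exact this u hu
      have hc2 : u * ((ψ y' : R) : Ω) = ((ψ y' : R) : Ω) * u := by
        obtain ⟨u', hu'⟩ : ∃ u' : R, u' = ψ⁻¹ ⟨u, hUR hu⟩ := ⟨_, rfl⟩
        have hu'T : (u' : Ω) ∈ T := by
          rw [hu']
          exact Fusion.aut_mem_of_stronglyClosed F hRS hT ψ⁻¹ (Subgroup.inv_mem _ hψA) _ (hUT hu)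
        have hu'U : (u' : Ω) ∈ R ⊓ T := hmemU _ u'.2 hu'T
        have hc : (u' : Ω) * (y' : Ω) = (y' : Ω) * (u' : Ω) := by
          have := (Subgroup.mem_inf.mp (hXD hy)).2
          rw [Subgroup.mem_centralizer_iff] at this
          exact this _ hu'U
        have hc' : u' * y' = y' * u' := Subtype.ext hc
        have h3 := congrArg (fun z : R => ((ψ z : R) : Ω)) hc'
        simp only [map_mul, Subgroup.coe_mul] at h3
        have h4 : ((ψ u' : R) : Ω) = u := by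
          rw [hu', MulAut.apply_inv_self]
        rw [h4] at h3
        exact h3
      calc u * ((y' : Ω)⁻¹ * ((ψ y' : R) : Ω))
          = (y' : Ω)⁻¹ * ((y' : Ω) * u) * ((y' : Ω)⁻¹ * ((ψ y' : R) : Ω)) := by group
        _ = (y' : Ω)⁻¹ * (u * (y' : Ω)) * ((y' : Ω)⁻¹ * ((ψ y' : R) : Ω)) := by rw [hc1]
        _ = (y' : Ω)⁻¹ * (u * ((ψ y' : R) : Ω)) := by group
        _ = (y' : Ω)⁻¹ * (((ψ y' : R) : Ω) * u) := by rw [hc2]
        _ = (y' : Ω)⁻¹ * ((ψ y' : R) : Ω) * u := by group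
  have c₁ : (orderOf β₁).Coprime p :=
    Nat.Coprime.coprime_dvd_left (cse_closed_orderOf_dvd hle' ψ β₁ hβ₁v) hcop
  have hacop : (orderOf a).Coprime p :=
    Nat.Coprime.coprime_dvd_left (cse_closed_orderOf_dvd hUR ψ a hav) hcop
  obtain ⟨β, hβ⟩ := cse_local p h hUc a ha
  obtain ⟨β', hβ', hcop'⟩ := cse_good_coprime p F hUS le_rfl hacop hβ
  obtain ⟨β₂, hβ₂, hβ₂v, hβ₂o⟩ := cse_good_restrict F hUS le_rfl hXD hβ'
  have c₂ : (orderOf β₂).Coprime p := Nat.Coprime.coprime_dvd_left hβ₂o hcop'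
  have heq := cse_unique p h hUc hXD a ha β₁ β₂ h₁ hβ₂ c₁ c₂
  have hxX : (x : Ω) ∈ X := hXdef ▸ Subgroup.mem_inf.mpr ⟨x.2, hC ▸ hx⟩
  have hfix : CseFixed p F E (x : Ω) := ((cse_mem_sSup_iff p h (x : Ω)).mp hx).2
  have hxD : (x : Ω) ∈ (R ⊓ T) ⊔ centralizerIn S (R ⊓ T) :=
    (le_sup_right : centralizerIn S (R ⊓ T) ≤ _) (hXD hxX)
  have f1 := hfix (R ⊓ T) hUc a ha hacop β' hβ' hcop' ⟨(x : Ω), hxD⟩ rfl
  have hxUX : (x : Ω) ∈ (R ⊓ T) ⊔ X := (le_sup_right : X ≤ _) hxX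
  have f2 := hβ₂v ⟨(x : Ω), hxUX⟩
  have f3 := hβ₁v ⟨(x : Ω), hxUX⟩
  have e : Subgroup.inclusion hle' ⟨(x : Ω), hxUX⟩ = x := Subtype.ext rfl
  rw [e] at f3
  rw [← f3, heq, f2]
  exact f1

/-- The `p'`-elements of `cseClosedK` preserve membership in `C`. -/
theorem cse_closed_pr_of_coprime [Finite S] (p : ℕ) [Fact p.Prime] {F : FusionSystem S}
    {E : FusionSystem T} (h : Setup p F E) {R : Subgroup Ω} (hRS : R ≤ S)
    (hUc : E.IsCentric (R ⊓ T)) (ψ : MulAut R) (hψ : ψ ∈ cseClosedK F E R)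
    (hcop : (orderOf ψ).Coprime p) : ψ ∈ cseClosedPr (sSup (cseY F E)) R := by
  intro x
  constructor
  · intro hx
    have := cse_closed_fix p h hRS hUc ψ hψ hcop x hx
    rw [this]
    exact hx
  · intro hx
    have hcop' : (orderOf ψ⁻¹).Coprime p := by rw [orderOf_inv]; exact hcop
    have := cse_closed_fix p h hRS hUc ψ⁻¹ (Subgroup.inv_mem _ hψ) hcop' (ψ x) hx
    rw [MulAut.inv_apply_self] at this
    rw [this]
    exact hx

/-- The essential case of the Alperin induction. -/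
theorem cse_closed_base [Finite S] (p : ℕ) [Fact p.Prime] {F : FusionSystem S} {E : FusionSystem T}
    (h : Setup p F E) {R : Subgroup Ω} (hess : F.IsEssential p R) (hTR : ¬ T ≤ R)
    (ih : ∀ (R' : Subgroup Ω) (ψ : R' →* Ω), ψ ∈ F.Hom R' → Nat.card R < Nat.card R' →
      ∀ x : R', (x : Ω) ∈ sSup (cseY F E) ↔ ψ x ∈ sSup (cseY F E))
    (α : MulAut R) (hα : α ∈ F.autGroup R) : α ∈ cseClosedPr (sSup (cseY F E)) R := by
  have hS := h.hS
  have hF := h.sat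
  have hT := h.sc
  have hTS := h.le
  have hTn := Fusion.le_normalizer_of_stronglyClosed F hT
  have hRS : R ≤ S := hess.1.1
  have : Finite R := Fusion.finite_of_le hRS
  have : Finite (MulAut R) := inferInstance
  obtain ⟨hfc, hfa⟩ := Fusion.fullyCentralized_fullyAutomized_of_fullyNormalized p hS F hF hess.2.1
  have hrec := Fusion.receptive_of_fullyCentralized p hS F hF hfc
  have hUc : E.IsCentric (R ⊓ T) := by
    by_contra hn
    exact (Fusion.s5251 p hS F hF E h.nrm R hess.1 hn).2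
      (Fusion.isRadical_of_isEssential p hS F hess)
  obtain ⟨K, hKdef⟩ : ∃ K, K = cseClosedK F E R := ⟨_, rfl⟩
  have hKA : K ≤ F.autGroup R := fun κ hκ => (hKdef ▸ hκ : κ ∈ cseClosedK F E R).1
  have hAK : F.autGroup R ≤ Subgroup.normalizer (K : Set (MulAut R)) := by
    intro β hβ
    apply mem_normalizer_of_conj_mem_of_finite
    intro κ hκ
    rw [hKdef] at hκ ⊢
    exact cseClosedK_conj F E h.inv hRS β κ hβ hκ
  have hUA : autInducedBy S R ≤ F.autGroup R := Fusion.autInducedBy_le_autGroup F hRS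
  have hUp : IsPGroup p (autInducedBy S R) := Fusion.isPGroup_autInducedBy p hS R
  have hcardU : Nat.card (autInducedBy S R) = p ^ (Nat.card (F.autGroup R)).factorization p :=
    (exists_sylow_eq_subgroupOf_iff (F.autGroup R) (autInducedBy S R) hUA).mp hfa.2
  have hcardUK : Nat.card ↥(autInducedBy S R ⊓ K) = p ^ (Nat.card K).factorization p :=
    card_inf_eq_ppart_of_normal hUA hKA hAK hUp hcardU
  -- `Aut_S(R)` preserves membership in `C`
  have hUPr : autInducedBy S R ≤ cseClosedPr (sSup (cseY F E)) R := by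
    intro u hu
    rw [mem_autInducedBy_iff] at hu
    obtain ⟨g, hg, hgu⟩ := hu
    intro x
    rw [hgu x]
    exact cse_closed_conj_iff p h hg (hRS x.2)
  -- `K` preserves membership in `C`
  have hKPr : K ≤ cseClosedPr (sSup (cseY F E)) R := by
    have hsyl : Nat.card ((autInducedBy S R ⊓ K).subgroupOf K) =
        p ^ (Nat.card K).factorization p := by
      rw [card_subgroupOf_of_le inf_le_right]; exact hcardUK
    have hgen := pResidual_sup_sylow' (Sylow.ofCard ((autInducedBy S R ⊓ K).subgroupOf K) hsyl)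
    have hle : pResidual p ↥K ⊔ ((Sylow.ofCard ((autInducedBy S R ⊓ K).subgroupOf K) hsyl :
        Sylow p ↥K) : Subgroup ↥K) ≤ (cseClosedPr (sSup (cseY F E)) R).subgroupOf K := by
      apply sup_le
      · unfold pResidual
        rw [Subgroup.closure_le]
        intro k hk
        have hk' : (orderOf k).Coprime p := hk
        rw [SetLike.mem_coe, Subgroup.mem_subgroupOf]
        apply cse_closed_pr_of_coprime p h hRS hUc k.1 (hKdef ▸ k.2)
        rw [Subgroup.orderOf_coe]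
        exact hk'
      · intro k hk
        have hk' : k ∈ (autInducedBy S R ⊓ K).subgroupOf K := hk
        rw [Subgroup.mem_subgroupOf] at hk' ⊢
        exact hUPr (Subgroup.mem_inf.mp hk').1
    intro κ hκ
    have h1 : (⟨κ, hκ⟩ : ↥K) ∈ (⊤ : Subgroup ↥K) := Subgroup.mem_top _
    rw [← hgen] at h1
    have h2 := hle h1
    rwa [Subgroup.mem_subgroupOf] at h2
  -- Frattini argument
  have hconjK : (autInducedBy S R ⊓ K).map (MulAut.conj α).toMonoidHom ≤ K := by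
    rintro _ ⟨u, hu, rfl⟩
    have := (Subgroup.mem_normalizer_iff.mp (hAK hα) u).mp hu.2
    exact this
  obtain ⟨κ, hκ, hκU⟩ := exists_conj_le_of_card_eq_ppart (inf_le_right : autInducedBy S R ⊓ K ≤ K)
    hcardUK hconjK ((hUp.to_le inf_le_left).map (MulAut.conj α).toMonoidHom)
  obtain ⟨γ, hγ⟩ : ∃ γ, γ = κ * α := ⟨_, rfl⟩
  have hγA : γ ∈ F.autGroup R := hγ ▸ Subgroup.mul_mem _ (hKA hκ) hα
  have hnorm : ∀ u ∈ autInducedBy S R ⊓ K, γ * u * γ⁻¹ ∈ autInducedBy S R ⊓ K := by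
    intro u hu
    have : γ * u * γ⁻¹ = (MulAut.conj κ).toMonoidHom ((MulAut.conj α).toMonoidHom u) := by
      show γ * u * γ⁻¹ = κ * (α * u * α⁻¹) * κ⁻¹
      rw [hγ]
      group
    rw [this]
    exact hκU ⟨_, ⟨u, hu, rfl⟩, rfl⟩
  -- `γ` extends to a larger subgroup
  have hCγ : γ ∈ cseClosedPr (sSup (cseY F E)) R := by
    have hγF := (Fusion.mem_autGroup_iff F hRS γ).mp hγA
    have hr : (R.subtype.comp γ.toMonoidHom).range = R := by
      ext y
      constructor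
      · rintro ⟨x, rfl⟩
        exact (γ x).2
      · intro hy
        refine ⟨γ.symm ⟨y, hy⟩, ?_⟩
        show ((γ (γ.symm ⟨y, hy⟩) : R) : Ω) = y
        rw [MulEquiv.apply_symm_apply]
    obtain ⟨ψ, hψ, hψext⟩ := hrec.2 R _ hγF hr
    obtain ⟨R₁, hR₁⟩ : ∃ R₁, R₁ = R ⊔ (T ⊓ Subgroup.normalizer (R : Set Ω)) := ⟨_, rfl⟩
    have hR₁ext : R₁ ≤ extender S R (R.subtype.comp γ.toMonoidHom) := by
      rw [hR₁]
      apply sup_le
      · exact Fusion.le_extender R hRS _ (fun x => hRS (γ x).2)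
      · intro g hg
        obtain ⟨hgT, hgN⟩ := Subgroup.mem_inf.mp hg
        apply Subgroup.subset_closure
        have hcU : conjAutHom R ⟨g, hgN⟩ ∈ autInducedBy S R :=
          Fusion.conjAutHom_mem_autInducedBy R _ (hTS hgT)
        have hcK : conjAutHom R ⟨g, hgN⟩ ∈ K := by
          rw [hKdef, mem_cseClosedK]
          refine ⟨hUA hcU, fun x => ?_, ?_⟩
          · show (x : Ω)⁻¹ * (g * (x : Ω) * g⁻¹) ∈ T
            have hxN : (x : Ω)⁻¹ ∈ Subgroup.normalizer (T : Set Ω) :=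
              Subgroup.inv_mem _ (hTn (hRS x.2))
            have h1 := (Subgroup.mem_normalizer_iff.mp hxN g).mp hgT
            rw [inv_inv] at h1
            have h2 : (x : Ω)⁻¹ * (g * (x : Ω) * g⁻¹) = (x : Ω)⁻¹ * g * (x : Ω) * g⁻¹ := by group
            rw [h2]
            exact T.mul_mem h1 (T.inv_mem hgT)
          · have hgNU : g ∈ Subgroup.normalizer ((R ⊓ T : Subgroup Ω) : Set Ω) := by
              rw [Subgroup.mem_normalizer_iff]
              intro z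
              have hgNT : g ∈ Subgroup.normalizer (T : Set Ω) := hTn (hTS hgT)
              rw [Subgroup.mem_inf, Subgroup.mem_inf,
                ← Subgroup.mem_normalizer_iff.mp hgN z, ← Subgroup.mem_normalizer_iff.mp hgNT z]
            refine ⟨conjAutHom (R ⊓ T) ⟨g, hgNU⟩,
              Fusion.autInducedBy_le_autGroup E inf_le_right
                (Fusion.conjAutHom_mem_autInducedBy (R ⊓ T) _ hgT), fun u => rfl⟩
        have h3 : γ * conjAutHom R ⟨g, hgN⟩ * γ⁻¹ ∈ autInducedBy S R :=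
          (Subgroup.mem_inf.mp (hnorm _ (Subgroup.mem_inf.mpr ⟨hcU, hcK⟩))).1
        rw [mem_autInducedBy_iff] at h3
        obtain ⟨h', hhS, hh⟩ := h3
        refine ⟨hTS hgT, hgN, h', hhS, fun x hx => ?_⟩
        have h4 := hh (γ x)
        show ((γ ⟨g * (x : Ω) * g⁻¹, hx⟩ : R) : Ω) = h' * ((γ x : R) : Ω) * h'⁻¹
        rw [← h4, MulAut.mul_apply, MulAut.mul_apply, MulAut.inv_apply_self]
        rfl
    have hRR₁ : R ≤ R₁ := hR₁ ▸ le_sup_left
    have hχ₁ := Fusion.restrict_mem F hψ hR₁ext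
    have hlt : Nat.card R < Nat.card R₁ := by
      have hRTS : R ⊔ T ≤ S := sup_le hRS hTS
      have : Finite ↥(R ⊔ T) := Fusion.finite_of_le hRTS
      have hne : R ≠ R ⊔ T := by
        intro h'
        apply hTR
        rw [h']
        exact le_sup_right
      obtain ⟨n, hn, hnR⟩ := Fusion.exists_mem_normalizerIn_not_mem (S := R ⊔ T) (hS.to_le hRTS)
        (le_sup_left : R ≤ R ⊔ T) hne
      obtain ⟨hnRT, hnN⟩ := Subgroup.mem_inf.mp hn
      have hmul := Subgroup.coe_mul_of_left_le_normalizer_right R T (hRS.trans hTn)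
      have hn' : n ∈ ((R ⊔ T : Subgroup Ω) : Set Ω) := hnRT
      rw [hmul] at hn'
      obtain ⟨x, hx, t, ht, rfl⟩ := hn'
      have htN : t ∈ Subgroup.normalizer (R : Set Ω) := by
        have : t = x⁻¹ * (x * t) := by group
        rw [this]
        exact Subgroup.mul_mem _ (Subgroup.inv_mem _ (Subgroup.le_normalizer hx)) hnN
      have htR : t ∉ R := by
        intro htR
        exact hnR (R.mul_mem hx htR)
      have hR₁S : R₁ ≤ S := hR₁ ▸ sup_le hRS (inf_le_left.trans hTS)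
      have : Finite R₁ := Fusion.finite_of_le hR₁S
      apply card_lt_of_lt
      refine lt_of_le_of_ne hRR₁ ?_
      intro h'
      apply htR
      rw [h', hR₁]
      exact (le_sup_right : T ⊓ Subgroup.normalizer (R : Set Ω) ≤ _)
        (Subgroup.mem_inf.mpr ⟨ht, htN⟩)
    have hPr := ih R₁ _ hχ₁ hlt
    intro x
    have h7 : (ψ.comp (Subgroup.inclusion hR₁ext)) ⟨x.1, hRR₁ x.2⟩ =
        (R.subtype.comp γ.toMonoidHom) x := hψext x.1 x.2 _
    have h8 := hPr ⟨x.1, hRR₁ x.2⟩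
    rw [h7] at h8
    exact h8
  -- compose
  have hκPr : κ⁻¹ ∈ cseClosedPr (sSup (cseY F E)) R := Subgroup.inv_mem _ (hKPr hκ)
  have hα' : α = κ⁻¹ * γ := by rw [hγ]; group
  rw [hα']
  exact Subgroup.mul_mem _ hκPr hCγ

/-- **`C = sSup Y` is strongly closed in `F`.** -/
theorem cse_stronglyClosed [Finite S] (p : ℕ) [Fact p.Prime] {F : FusionSystem S}
    {E : FusionSystem T} (h : Setup p F E) : F.StronglyClosed (sSup (cseY F E)) := by
  have hCY := cse_sSup_mem p h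
  have hCS : sSup (cseY F E) ≤ S := hCY.1.trans inf_le_left
  have key : ∀ {P : Subgroup Ω} {φ : P →* Ω}, φ ∈ F.Hom P →
      ∀ x : P, (x : Ω) ∈ sSup (cseY F E) ↔ φ x ∈ sSup (cseY F E) := by
    intro P φ hφ
    refine Fusion.pred_of_alperin_ind p h.hS F h.sat
      (fun P φ => ∀ x : P, (x : Ω) ∈ sSup (cseY F E) ↔ φ x ∈ sSup (cseY F E)) ?_ ?_ ?_ ?_ hφ
    · intro P g hP hg x
      exact cse_closed_conj_iff p h hg (hP x.2)
    · intro P Q φ ψ hPQ _ _ hPφ hPψ x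
      rw [hPφ x]
      exact hPψ ⟨φ x, hPQ x⟩
    · intro P φ ψ _ hPφ _ hinv
      rintro ⟨_, x, rfl⟩
      rw [hinv x]
      exact (hPφ x).symm
    · intro R hR ih α hα
      have hRS : R ≤ S := by
        rcases hR with rfl | hess
        · exact le_rfl
        · exact hess.1.1
      have hαF := (Fusion.mem_autGroup_iff F hRS α).mp hα
      by_cases hTR : T ≤ R
      · exact fun x => cse_closed_big_iff p h hTR hαF x
      have hRne : R ≠ S := by
        rintro rfl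
        exact hTR h.le
      have hess : F.IsEssential p R := by
        rcases hR with h' | h'
        · exact absurd h' hRne
        · exact h'
      exact cse_closed_base p h hess hTR ih α hα
  exact ⟨hCS, fun R hR φ hφ x => (key hφ x).mp (hR x.2)⟩

end Cfsg.Agent.CSE
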