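import Mathlib
import Cfsg.Prelude.Def_FusionComponents
import Cfsg.Agent.CSE.Basic
import Cfsg.Agent.CSE.Restrict
import Cfsg.Agent.CSE.Unique
import Cfsg.Agent.CSE.Largest
import Cfsg.Agent.Helper6.BcgloA

/-!
CSE project, piece P8 (helper7): the focal subgroup of `C_F(T)` lies in `C_S(E)` (S5293).
`cse_foc_equivariant` is Corollary U4 of `notes/S5127_S5293_helper7.md`: the canonical good lift commutes
with every map of `F` that is the identity on `U`.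
-/

set_option autoImplicit false

namespace Cfsg.Agent.CSE

open Cfsg Cfsg.FusionSystem Cfsg.Agent.Lead Cfsg.Agent.Helper6.Bcglo

variable {Ω : Type*} [Group Ω] {S T : Subgroup Ω}

/-- U4: equivariance of a good `p'`-lift over `C_S(U)` under maps of `F` fixing `U` pointwise. -/
theorem cse_foc_equivariant [Finite S] (p : ℕ) [Fact p.Prime] {F : FusionSystem S}
    {E : FusionSystem T} (h : Setup p F E) {U : Subgroup Ω} (hU : E.IsCentric U)
    (α : MulAut U) (hα : α ∈ E.autGroup U)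
    (β : MulAut ↥(U ⊔ centralizerIn S U)) (hβ : CseGood F U (centralizerIn S U) α β)
    (hcop : (orderOf β).Coprime p) {P : Subgroup Ω} (hP : P ≤ centralizerIn S U)
    (μ : ↥(U ⊔ P) →* Ω) (hμ : μ ∈ F.Hom (U ⊔ P))
    (hμU : ∀ u : U, μ (Subgroup.inclusion le_sup_left u) = (u : Ω))
    (x : ↥(U ⊔ P)) (hx : (x : Ω) ∈ P) (δ : U)
    (hxR : (x : Ω) ∈ U ⊔ centralizerIn S U) (hμxR : μ x ∈ U ⊔ centralizerIn S U)
    (hδ : ((β ⟨x, hxR⟩ : ↥(U ⊔ centralizerIn S U)) : Ω) = (x : Ω) * (δ : Ω)) :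
    ((β ⟨μ x, hμxR⟩ : ↥(U ⊔ centralizerIn S U)) : Ω) = μ x * (δ : Ω) := by
  have hUS : U ≤ S := hU.1.trans h.le
  have hCS : centralizerIn S U ≤ S := inf_le_left
  have hPS : P ≤ S := hP.trans hCS
  have hUPS : U ⊔ P ≤ S := sup_le hUS hPS
  have hfin : Finite ↥(U ⊔ P) := Fusion.finite_of_le hUPS
  have hμinj := F.injective_of_mem hμ
  -- the image of P
  set X₂ : Subgroup Ω := (P.subgroupOf (U ⊔ P)).map μ with hX₂
  have hX₂C : X₂ ≤ centralizerIn S U := by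
    rintro _ ⟨y, hy, rfl⟩
    rw [SetLike.mem_coe, Subgroup.mem_subgroupOf] at hy
    refine Subgroup.mem_inf.mpr ⟨Fusion.map_mem F hμ y, ?_⟩
    rw [Subgroup.mem_centralizer_iff]
    intro u hu
    have hyc := (Subgroup.mem_centralizer_iff.mp (Subgroup.mem_inf.mp (hP hy)).2) u hu
    have e : μ (Subgroup.inclusion le_sup_left (⟨u, hu⟩ : U)) = u := hμU ⟨u, hu⟩
    calc u * μ y = μ (Subgroup.inclusion le_sup_left (⟨u, hu⟩ : U)) * μ y := by rw [e]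
      _ = μ (Subgroup.inclusion le_sup_left (⟨u, hu⟩ : U) * y) := (map_mul μ _ _).symm
      _ = μ (y * Subgroup.inclusion le_sup_left (⟨u, hu⟩ : U)) := by
          congr 1
          apply Subtype.ext
          exact hyc
      _ = μ y * μ (Subgroup.inclusion le_sup_left (⟨u, hu⟩ : U)) := map_mul μ _ _
      _ = μ y * u := by rw [e]
  -- the range of μ
  have hrange : μ.range = U ⊔ X₂ := by
    rw [MonoidHom.range_eq_map]
    have htop : (⊤ : Subgroup ↥(U ⊔ P)) = U.subgroupOf (U ⊔ P) ⊔ P.subgroupOf (U ⊔ P) := by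
      rw [← Subgroup.subgroupOf_sup le_sup_left le_sup_right, Subgroup.subgroupOf_self]
    rw [htop, Subgroup.map_sup]
    congr 1
    ext y
    constructor
    · rintro ⟨u, hu, rfl⟩
      rw [SetLike.mem_coe, Subgroup.mem_subgroupOf] at hu
      have := hμU ⟨u.1, hu⟩
      have e : Subgroup.inclusion le_sup_left (⟨u.1, hu⟩ : U) = u := Subtype.ext rfl
      rw [e] at this
      rw [this]
      exact hu
    · intro hy
      refine ⟨Subgroup.inclusion le_sup_left ⟨y, hy⟩, ?_, hμU ⟨y, hy⟩⟩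
      rw [SetLike.mem_coe, Subgroup.mem_subgroupOf]
      exact hy
  set eμ : ↥(U ⊔ P) ≃* ↥(U ⊔ X₂) := Fusion.equivOfRange μ hμinj hrange with heμ
  have heμiso : IsIso F eμ := IsIso.of_hom hμ hrange
  have heμx : ∀ y : ↥(U ⊔ P), ((eμ y : ↥(U ⊔ X₂)) : Ω) = μ y := fun y => rfl
  -- the two restrictions of β
  obtain ⟨β₁, hβ₁, hβ₁v, hβ₁o⟩ := cse_good_restrict F hUS le_rfl hP hβ
  obtain ⟨β₂, hβ₂, hβ₂v, hβ₂o⟩ := cse_good_restrict F hUS le_rfl hX₂C hβ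
  have c₁ : (orderOf β₁).Coprime p := Nat.Coprime.coprime_dvd_left hβ₁o hcop
  have c₂ : (orderOf β₂).Coprime p := Nat.Coprime.coprime_dvd_left hβ₂o hcop
  -- the conjugate of β₁
  set β₂' : MulAut ↥(U ⊔ X₂) := MulAut.congr eμ β₁ with hβ₂'
  have hβ₂'x : ∀ y : ↥(U ⊔ P), β₂' (eμ y) = eμ (β₁ y) := by
    intro y
    show eμ (β₁ (eμ.symm (eμ y))) = _
    rw [MulEquiv.symm_apply_apply]
  have heμU : ∀ u : U, eμ (Subgroup.inclusion le_sup_left u) = Subgroup.inclusion le_sup_left u :=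
    fun u => Subtype.ext (hμU u)
  have hβ₁U : ∀ u : U, β₁ (Subgroup.inclusion le_sup_left u) =
      Subgroup.inclusion le_sup_left (α u) := fun u => Subtype.ext (hβ₁.2.1 u)
  have hgood' : CseGood F U X₂ α β₂' := by
    refine ⟨heμiso.congr_mem hβ₁.1, ?_, ?_⟩
    · intro u
      rw [← heμU u, hβ₂'x, hβ₁U, heμU]
      rfl
    · rintro w ⟨y, hy, hyw⟩
      rw [SetLike.mem_coe, Subgroup.mem_subgroupOf] at hy
      have hw : w = eμ y := Subtype.ext hyw.symm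
      obtain ⟨δ', hδ'Z, hδ'⟩ := cse_uni_exists_quot F hβ₁ y hy
      rw [hw, hβ₂'x, hδ', map_mul, heμU]
      show ((eμ y : ↥(U ⊔ X₂)) : Ω)⁻¹ * (((eμ y : ↥(U ⊔ X₂)) : Ω) * (δ' : Ω)) ∈ cseZ U
      rw [inv_mul_cancel_left]
      exact hδ'Z
  have c₂' : (orderOf β₂').Coprime p := by
    have : orderOf β₂' = orderOf β₁ := (MulAut.congr eμ).orderOf_eq β₁
    rw [this]
    exact c₁
  have heq : β₂' = β₂ := cse_unique p h hU hX₂C α hα β₂' β₂ hgood' hβ₂ c₂' c₂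
  -- evaluate
  have hμxX₂ : μ x ∈ X₂ := by
    refine ⟨x, ?_, rfl⟩
    rw [SetLike.mem_coe, Subgroup.mem_subgroupOf]
    exact hx
  have h1 := hβ₂v (eμ x)
  have h2 : (Subgroup.inclusion (sup_le_sup_left hX₂C U) (eμ x)) =
      (⟨μ x, hμxR⟩ : ↥(U ⊔ centralizerIn S U)) := Subtype.ext rfl
  rw [h2] at h1
  rw [← h1, ← heq, hβ₂'x, heμx]
  -- β₁ x = x * δ
  have h3 := hβ₁v x
  have h4 : (Subgroup.inclusion (sup_le_sup_left hP U) x) =
      (⟨x, hxR⟩ : ↥(U ⊔ centralizerIn S U)) := Subtype.ext rfl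
  rw [h4, hδ] at h3
  have h5 : β₁ x = x * Subgroup.inclusion le_sup_left δ := Subtype.ext h3
  rw [h5, map_mul]
  congr 1
  exact hμU δ

/-- P8: the focal subgroup of `C_F(T)` lies in `C_S(E)`. -/
theorem cse_focal_le [Finite S] (p : ℕ) [Fact p.Prime] {F : FusionSystem S} {E : FusionSystem T}
    (h : Setup p F E) (D : FusionSystem (centralizerIn S T)) (hD : F.IsCentralizerSystem T D) :
    D.focalSubgroup ≤ sSup (cseY F E) := by
  unfold FusionSystem.focalSubgroup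
  rw [Subgroup.closure_le]
  rintro _ ⟨P, φ, x, hφ, rfl⟩
  rw [SetLike.mem_coe]
  rw [hD P] at hφ
  obtain ⟨hφF, hPC, hφC, ψ, hψ, hψP, hψT⟩ := hφ
  rw [cse_mem_sSup_iff p h]
  have hxC : (x : Ω) ∈ centralizerIn S T := hPC x.2
  have hq : (x : Ω)⁻¹ * φ x ∈ centralizerIn S T :=
    Subgroup.mul_mem _ (Subgroup.inv_mem _ hxC) (hφC x)
  refine ⟨hq, ?_⟩
  intro U hU α hα hαo β hβ hβo y hy
  have hUT : U ≤ T := hU.1
  have hCTU : centralizerIn S T ≤ centralizerIn S U := by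
    intro g hg
    refine Subgroup.mem_inf.mpr ⟨(Subgroup.mem_inf.mp hg).1, ?_⟩
    rw [Subgroup.mem_centralizer_iff]
    intro u hu
    exact (Subgroup.mem_centralizer_iff.mp (Subgroup.mem_inf.mp hg).2) u (hUT hu)
  have hPCU : P ≤ centralizerIn S U := hPC.trans hCTU
  have hle : U ⊔ P ≤ P ⊔ T := sup_le (hUT.trans le_sup_right) le_sup_left
  set μ : ↥(U ⊔ P) →* Ω := ψ.comp (Subgroup.inclusion hle) with hμdef
  have hμ : μ ∈ F.Hom (U ⊔ P) := Fusion.restrict_mem F hψ hle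
  have hμU : ∀ u : U, μ (Subgroup.inclusion le_sup_left u) = (u : Ω) := by
    intro u
    have := hψT ⟨u, hUT u.2⟩
    rw [← this]
    rfl
  set x' : ↥(U ⊔ P) := Subgroup.inclusion le_sup_right x with hx'
  have hx'P : (x' : Ω) ∈ P := x.2
  have hμx : μ x' = φ x := by
    rw [← hψP x]
    rfl
  have hxR : (x' : Ω) ∈ U ⊔ centralizerIn S U :=
    (le_sup_right : centralizerIn S U ≤ U ⊔ centralizerIn S U) (hPCU x.2)
  have hμxR : μ x' ∈ U ⊔ centralizerIn S U := by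
    rw [hμx]
    exact (le_sup_right : centralizerIn S U ≤ U ⊔ centralizerIn S U) (hCTU (hφC x))
  obtain ⟨δ, hδZ, hδ⟩ := cse_uni_exists_quot F hβ ⟨(x' : Ω), hxR⟩ (hPCU x.2)
  have hδ' : ((β ⟨x', hxR⟩ : ↥(U ⊔ centralizerIn S U)) : Ω) = (x' : Ω) * (δ : Ω) := by
    rw [hδ]
    rfl
  have hequi := cse_foc_equivariant p h hU α hα β hβ hβo hPCU μ hμ hμU x' hx'P δ hxR hμxR hδ'
  -- evaluate β at y = x⁻¹ φ x
  have hy' : y = (⟨(x' : Ω), hxR⟩ : ↥(U ⊔ centralizerIn S U))⁻¹ * ⟨μ x', hμxR⟩ := by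
    apply Subtype.ext
    rw [hy]
    show (x : Ω)⁻¹ * φ x = (x' : Ω)⁻¹ * μ x'
    rw [hμx]
    rfl
  rw [hy', map_mul, map_inv]
  show (((β ⟨x', hxR⟩ : ↥(U ⊔ centralizerIn S U)) : Ω))⁻¹ *
    ((β ⟨μ x', hμxR⟩ : ↥(U ⊔ centralizerIn S U)) : Ω) = (x : Ω)⁻¹ * φ x
  rw [hδ', hequi, hμx]
  show ((x : Ω) * (δ : Ω))⁻¹ * (φ x * (δ : Ω)) = (x : Ω)⁻¹ * φ x
  -- δ ∈ U commutes with x⁻¹ φ x ∈ C_S(T) ≤ C_S(U)
  have hcomm : (δ : Ω) * ((x : Ω)⁻¹ * φ x) = ((x : Ω)⁻¹ * φ x) * (δ : Ω) :=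
    (Subgroup.mem_centralizer_iff.mp (Subgroup.mem_inf.mp (hCTU hq)).2) (δ : Ω) δ.2
  rw [mul_inv_rev, mul_assoc, ← mul_assoc _ (φ x), ← hcomm, inv_mul_cancel_left]

end Cfsg.Agent.CSE
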