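import Mathlib

/-!
CSE project, helper lemma for piece P3 (helper7): the coprime chain step 5h of Theorem L in
`notes/S5127_S5293_helper7.md`, as a pure group lemma (no normality, no quotient).
-/

set_option autoImplicit false

namespace Cfsg.Agent.CSE

/-- If `φ ^ m = 1` with `m` prime to `p`, `φ` maps `Z` into `Z`, moves every `x ∈ X` inside `x Z`, and
`φ d = d * x * z` with `x ∈ X` a `p`-element and `z ∈ Z`, where `D ⊇ X` commutes elementwise with `Z`, then `x ∈ Z`. -/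
theorem cse_locB0_chain {M : Type*} [Group M] (p : ℕ) (φ : MulAut M) (m : ℕ) (hm : φ ^ m = 1)
    (hcop : m.Coprime p) (Z X D : Subgroup M) (hφZ : ∀ z ∈ Z, φ z ∈ Z)
    (hDZ : ∀ d ∈ D, ∀ z ∈ Z, d * z = z * d) (hXD : X ≤ D)
    (hX : ∀ x ∈ X, x⁻¹ * φ x ∈ Z) (d x z : M) (hx : x ∈ X) (hz : z ∈ Z)
    (hdx : φ d = d * x * z) (k : ℕ) (hxk : x ^ (p ^ k) = 1) : x ∈ Z := by
  set z' := x⁻¹ * φ x with hz'
  have hz'Z : z' ∈ Z := hX x hx
  have hφx : φ x = x * z' := by rw [hz', mul_inv_cancel_left]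
  have hxD : x ∈ D := hXD hx
  have hcomm : Commute x z' := hDZ x hxD z' hz'Z
  have hiter : ∀ n : ℕ, ∃ w ∈ Z, (φ ^ n) d = d * x ^ n * w := by
    intro n
    induction n with
    | zero => exact ⟨1, Z.one_mem, by simp⟩
    | succ n ih =>
      obtain ⟨w, hw, hn⟩ := ih
      refine ⟨z * z' ^ n * φ w, Z.mul_mem (Z.mul_mem hz (Z.pow_mem hz'Z n)) (hφZ w hw), ?_⟩
      rw [pow_succ', MulAut.mul_apply, hn, map_mul, map_mul, map_pow, hdx, hφx, hcomm.mul_pow]
      have h1 : z * x ^ n = x ^ n * z := (hDZ _ (D.pow_mem hxD n) z hz).symm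
      calc d * x * z * (x ^ n * z' ^ n) * φ w = d * x * (z * x ^ n) * z' ^ n * φ w := by group
        _ = d * x * (x ^ n * z) * z' ^ n * φ w := by rw [h1]
        _ = d * x ^ (n + 1) * (z * z' ^ n * φ w) := by rw [pow_succ']; group
  obtain ⟨w, hw, hmw⟩ := hiter m
  rw [hm, MulAut.one_apply] at hmw
  have hxm : x ^ m = w⁻¹ := by
    have h2 : d * (x ^ m * w) = d * 1 := by rw [mul_one, ← mul_assoc]; exact hmw.symm
    exact eq_inv_of_mul_eq_one_left (mul_left_cancel h2)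
  have hxmZ : x ^ m ∈ Z := hxm ▸ Z.inv_mem hw
  have hord : orderOf x ∣ p ^ k := orderOf_dvd_of_pow_eq_one hxk
  have hc : m.Coprime (orderOf x) := Nat.Coprime.coprime_dvd_right hord (Nat.Coprime.pow_right k hcop)
  obtain ⟨j, hj⟩ := exists_pow_eq_self_of_coprime hc
  rw [← hj]
  exact Z.pow_mem hxmZ j

end Cfsg.Agent.CSE
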